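import Groth.Agent.H28.SelfInt.Fam
import Mathlib.LinearAlgebra.ExteriorPower.Basis

/-!
# The classes of families along a regular sequence form a basis
-/

set_option autoImplicit false
set_option linter.style.haveILetI false
set_option linter.unusedSectionVars false

noncomputable section

namespace Groth.Agent.H28.SelfInt

/-- Strictly decreasing tuples below `j`. -/
def Idx (j q : ℕ) : Type := {v : Fin q → ℕ // StrictAnti v ∧ ∀ i, v i < j}

namespace Idx

instance finite (j q : ℕ) : Finite (Idx j q) :=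
  Finite.of_injective (fun J : Idx j q => fun i => (⟨J.1 i, J.2.2 i⟩ : Fin j)) fun J J' h =>
    Subtype.ext (funext fun i => congrArg Fin.val (congrFun h i))

instance fintype (j q : ℕ) : Fintype (Idx j q) := Fintype.ofFinite _

/-- The empty tuple. -/
def nil (j : ℕ) : Idx j 0 := ⟨![], fun i => i.elim0, fun i => i.elim0⟩

instance subsingleton_zero (j : ℕ) : Subsingleton (Idx j 0) :=
  ⟨fun _ _ => Subtype.ext (funext fun i => i.elim0)⟩

instance isEmpty_zero (q : ℕ) : IsEmpty (Idx 0 (q + 1)) := ⟨fun J => absurd (J.2.2 0) (Nat.not_lt_zero _)⟩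

/-- Raise the bound. -/
def old {j q : ℕ} (J : Idx j q) : Idx (j + 1) q := ⟨J.1, J.2.1, fun i => (J.2.2 i).trans (Nat.lt_succ_self j)⟩

/-- Put the new bound in front. -/
def new {j q : ℕ} (J : Idx j q) : Idx (j + 1) (q + 1) :=
  ⟨Fin.cons j J.1, fun a b h => by
    obtain ⟨b, rfl⟩ := Fin.exists_succ_eq.2 (Fin.pos_iff_ne_zero.1 (lt_of_le_of_lt (Fin.zero_le a) h))
    refine Fin.cases ?_ (fun a h => ?_) a h
    · exact fun _ => by simpa using J.2.2 b
    · simpa using J.2.1 (Fin.succ_lt_succ_iff.1 h), Fin.cases (by simp) fun i => by simpa using (J.2.2 i).trans (Nat.lt_succ_self j)⟩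

theorem split_bijective (j q : ℕ) :
    Function.Bijective (Sum.elim (old (q := q + 1)) (new (j := j) (q := q))) := by
  refine ⟨?_, fun J => ?_⟩
  · rintro (J | J) (J' | J') h
    · exact congrArg Sum.inl (Subtype.ext (congrArg (fun K : Idx (j + 1) (q + 1) => K.1) h))
    · have h0 := congrArg (fun K : Idx (j + 1) (q + 1) => K.1 0) h
      have := J.2.2 0
      simp [old, new] at h0
      omega
    · have h0 := congrArg (fun K : Idx (j + 1) (q + 1) => K.1 0) h
      have := J'.2.2 0
      simp [old, new] at h0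
      omega
    · refine congrArg Sum.inr (Subtype.ext (funext fun i => ?_))
      simpa [new] using congrArg (fun K : Idx (j + 1) (q + 1) => K.1 i.succ) h
  · by_cases h : J.1 0 = j
    · refine ⟨Sum.inr ⟨fun i => J.1 i.succ, fun a b hab => J.2.1 (Fin.succ_lt_succ_iff.2 hab), fun i => ?_⟩, ?_⟩
      · have := J.2.1 (Fin.succ_pos i)
        show J.1 i.succ < j
        omega
      · refine Subtype.ext (funext (Fin.cases ?_ fun i => ?_))
        · show (Fin.cons j (fun i => J.1 i.succ) : Fin (q + 1) → ℕ) 0 = J.1 0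
          rw [Fin.cons_zero, h]
        · show (Fin.cons j (fun i => J.1 i.succ) : Fin (q + 1) → ℕ) i.succ = J.1 i.succ
          rw [Fin.cons_succ]
    · refine ⟨Sum.inl ⟨J.1, J.2.1, fun i => ?_⟩, rfl⟩
      have h1 := J.2.2 0
      have h2 := J.2.1.antitone (Fin.zero_le i)
      omega

theorem sum_split {j q : ℕ} {A : Type*} [AddCommMonoid A] (F : Idx (j + 1) (q + 1) → A) :
    ∑ J, F J = ∑ J, F (old J) + ∑ J, F (new J) :=
  ((split_bijective j q).sum_comp F).symm.trans (Fintype.sum_sum_type _)

theorem ext_split {j q : ℕ} {A : Type*} {F G : Idx (j + 1) (q + 1) → A} (ho : ∀ J, F (old J) = G (old J))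
    (hn : ∀ J, F (new J) = G (new J)) : F = G := funext fun J => by
  obtain ⟨J | J, rfl⟩ := (split_bijective j q).2 J
  exacts [ho J, hn J]

theorem exists_split {j q : ℕ} {A : Type*} (μ : Idx j (q + 1) → A) (ν : Idx j q → A) :
    ∃ F : Idx (j + 1) (q + 1) → A, (∀ J, F (old J) = μ J) ∧ ∀ J, F (new J) = ν J :=
  ⟨fun J => Sum.elim μ ν ((Equiv.ofBijective _ (split_bijective j q)).symm J),
    fun J => by simp [(Equiv.symm_apply_eq (Equiv.ofBijective _ (split_bijective j q))).2 (show old J = Equiv.ofBijective _ (split_bijective j q) (Sum.inl J) from rfl)],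
    fun J => by simp [(Equiv.symm_apply_eq (Equiv.ofBijective _ (split_bijective j q))).2 (show new J = Equiv.ofBijective _ (split_bijective j q) (Sum.inr J) from rfl)]⟩

end Idx

section Basis

variable {R : Type*} [CommRing R] {N : ℕ → Type*} [∀ p, AddCommGroup (N p)] [∀ p, Module R (N p)] {M : Type*}
  [AddCommGroup M] [Module R M] {d : ∀ p, N (p + 1) →ₗ[R] N p} {ε : N 0 →ₗ[R] M}

/-- The ideal of the first functions. -/
def idl (f : ℕ → R) (j : ℕ) : Ideal R := Ideal.span (f '' Set.Iio j)

theorem mem_idl {f : ℕ → R} {i j : ℕ} (h : i < j) : f i ∈ idl f j := Ideal.subset_span ⟨i, h, rfl⟩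

theorem idl_succ (f : ℕ → R) (j : ℕ) : idl f (j + 1) = idl f j ⊔ Ideal.span {f j} := by
  rw [idl, idl, ← Ideal.span_union, ← Set.image_singleton, ← Set.image_union]
  congr 2
  ext i
  simp [Nat.lt_succ_iff, le_iff_eq_or_lt, or_comm]

theorem idl_zero (f : ℕ → R) : idl f 0 = ⊥ := by simp [idl]

theorem mem_idl_succ_smul {V : Type*} [AddCommGroup V] [Module R V] {f : ℕ → R} {j : ℕ} {z : V}
    (h : z ∈ idl f (j + 1) • (⊤ : Submodule R V)) : ∃ w, z - f j • w ∈ idl f j • (⊤ : Submodule R V) := by
  rw [idl_succ, Submodule.sup_smul, Submodule.ideal_span_singleton_smul, Submodule.mem_sup] at h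
  obtain ⟨a, ha, b, hb, rfl⟩ := h
  obtain ⟨w, -, rfl⟩ := (Submodule.mem_smul_pointwise_iff_exists _ _ _).1 hb
  exact ⟨w, by simpa using ha⟩

variable (d ε) in
/-- The hypotheses. -/
structure Data (f : ℕ → R) (r : ℕ) : Prop where
  res : IsRes d ε
  regular : ∀ j < r, ∀ q (w : N q), f j • w ∈ idl f j • (⊤ : Submodule R (N q)) → w ∈ idl f j • (⊤ : Submodule R (N q))
  killed : ∀ i (m : M), f i • m = 0
  bound : ∀ i, r ≤ i → f i = 0

variable {f : ℕ → R} {r : ℕ}

theorem Data.exists_fam (H : Data d ε f r) (m : M) (q : ℕ) : ∃ c, IsFam d ε f m q c := by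
  let g : ℕ → Fin (r + 1) := fun i => if h : i < r then ⟨i, h.trans (Nat.lt_succ_self r)⟩ else Fin.last r
  let a : Fin (r + 1) → R := fun i => f i.1
  have hg : a ∘ g = f := funext fun i => by
    by_cases h : i < r
    · simp [a, g, h]
    · simp [a, g, h, H.bound i (not_lt.1 h), H.bound r le_rfl]
  obtain ⟨c, hc⟩ := SelfInt.exists_fam H.res a m (fun i => H.killed _ m) q
  exact ⟨_, hg ▸ hc.comp g⟩

variable (d ε f) in
/-- A choice of families, zero at zero. -/
def IsChoice (q : ℕ) (C : M → ∀ p, (Fin p → ℕ) → N p) : Prop :=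
  (∀ m, IsFam d ε f m q (C m)) ∧ ∀ p v, C 0 p v = 0

theorem Data.exists_choice (H : Data d ε f r) (q : ℕ) : ∃ C, IsChoice d ε f q C := by
  classical
  choose c hc using fun m => H.exists_fam m q
  refine ⟨fun m => if m = 0 then (fun _ => 0) else c m, fun m => ?_, fun p v => by simp⟩
  by_cases h : m = 0
  · subst h; simpa using IsFam.zero f q
  · simpa [h] using hc m

variable {C : M → ∀ p, (Fin p → ℕ) → N p}

theorem cyc_d (H : Data d ε f r) (I : Ideal R) {q : ℕ} (u : N (q + 1)) : Cyc d I q (d q u) := by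
  cases q with
  | zero => trivial
  | succ p => show d p (d (p + 1) u) ∈ _; rw [H.res.dd]; exact zero_mem _

theorem Data.eps_Bd (H : Data d ε f r) (j : ℕ) {z : N 0} (hz : z ∈ Bd d (idl f j) 0) : ε z = 0 := by
  obtain ⟨_, ⟨w, rfl⟩, b, hb, rfl⟩ := Submodule.mem_sup.1 hz
  rw [map_add, H.res.eps_d, zero_add]
  refine Submodule.smul_induction_on hb (fun t ht n _ => ?_) fun u v hu hv => by rw [map_add, hu, hv, add_zero]
  rw [map_smul]
  refine Submodule.span_induction ?_ (zero_smul R _) (fun a b _ _ ha hb => by rw [add_smul, ha, hb, add_zero])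
    (fun a b _ hb => by rw [smul_eq_mul, mul_smul, hb, smul_zero]) ht
  rintro _ ⟨i, -, rfl⟩
  exact H.killed i _

/-- A multiple by a function is a boundary. -/
theorem Data.smul_mem (H : Data d ε f r) {q : ℕ} (hC : IsChoice d ε f q C) {j : ℕ} (i : ℕ) (m : M) (J : Idx j q) :
    f i • C m q J.1 ∈ Bd d (idl f j) q := by
  have h := IsFam.sub_mem H.res ((hC.1 m).smul (f i)) ((H.killed i m).symm ▸ IsFam.zero f q) J.1 (idl f j)
    fun k => mem_idl (J.2.2 k)
  simpa using h

/-- Classes generate, and are independent. -/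
theorem Data.main (H : Data d ε f r) : ∀ (q : ℕ) (j : ℕ), j ≤ r → ∀ C, IsChoice d ε f q C →
    (∀ z, Cyc d (idl f j) q z → ∃ μ : Idx j q → M, z - ∑ J, C (μ J) q J.1 ∈ Bd d (idl f j) q) ∧
    ∀ μ : Idx j q → M, ∑ J, C (μ J) q J.1 ∈ Bd d (idl f j) q → μ = 0 := by
  intro q
  induction q with
  | zero =>
    intro j _ C hC
    have hsum : ∀ μ : Idx j 0 → M, ε (∑ J, C (μ J) 0 J.1) = μ (Idx.nil j) := fun μ => by
      rw [Fintype.sum_subsingleton _ (Idx.nil j)]
      exact (hC.1 _).aug
    refine ⟨fun z _ => ⟨fun _ => ε z, ?_⟩, fun μ hμ => funext fun J => ?_⟩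
    · obtain ⟨u, hu⟩ := H.res.ex0 (z - ∑ J : Idx j 0, C ((fun _ => ε z) J) 0 J.1) (by rw [map_sub, hsum, sub_self])
      exact Submodule.mem_sup_left ⟨u, hu⟩
    · rw [Subsingleton.elim J (Idx.nil j), ← hsum μ]
      exact H.eps_Bd j hμ
  | succ q ih =>
    intro j
    induction j with
    | zero =>
      intro _ C hC
      refine ⟨fun z hz => ⟨isEmptyElim, ?_⟩, fun μ _ => funext isEmptyElim⟩
      rw [Fintype.sum_empty, sub_zero]
      change d q z ∈ idl f 0 • (⊤ : Submodule R (N q)) at hz
      rw [idl_zero, Submodule.bot_smul, Submodule.mem_bot] at hz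
      exact Submodule.mem_sup_left (H.res.ex q z hz)
    | succ j ihj =>
      intro hj C hC
      obtain ⟨hS, hI⟩ := ihj (Nat.le_of_succ_le hj) C hC
      obtain ⟨hS', hI'⟩ := ih j (Nat.le_of_succ_le hj) C ⟨fun m => (hC.1 m).mono (Nat.le_succ q), hC.2⟩
      have hle : idl f j ≤ idl f (j + 1) := Ideal.span_mono (Set.image_mono (Set.Iio_subset_Iio (Nat.le_succ j)))
      have hnew : ∀ (m : M) (J : Idx j q),
          d q (C m (q + 1) (Idx.new J).1) - f j • C m q J.1 ∈ idl f j • (⊤ : Submodule R (N q)) := fun m J => by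
        rw [(hC.1 m).step q (Nat.lt_succ_self q)]
        cases q with
        | zero =>
          have e : D f (C m 0) (Idx.new J).1 = f j • C m 0 J.1 := by
            have hr : (0 : Fin 1).removeNth (Idx.new J).1 = J.1 := funext fun i => i.elim0
            simp only [D, Fin.sum_univ_one, hr]
            simp [Idx.new]
          rw [e, sub_self]; exact zero_mem _
        | succ p =>
          rw [show (Idx.new J).1 = Fin.cons j J.1 from rfl, D_cons, sub_sub_cancel_left]
          exact neg_mem (D_mem f _ _ _ fun k => mem_idl (J.2.2 k))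
      have hold : ∀ (m : M) (J : Idx j (q + 1)), d q (C m (q + 1) J.1) ∈ idl f j • (⊤ : Submodule R (N q)) := fun m J => by
        rw [(hC.1 m).step q (Nat.lt_succ_self q)]
        exact D_mem f _ _ _ fun k => mem_idl (J.2.2 k)
      have hdI : ∀ (u : N (q + 1)), u ∈ idl f j • (⊤ : Submodule R (N (q + 1))) → d q u ∈ idl f j • (⊤ : Submodule R (N q)) :=
        fun u hu => by
        refine Submodule.smul_induction_on hu (fun t ht n _ => ?_) fun a b ha hb => ?_
        · rw [map_smul]; exact Submodule.smul_mem_smul ht Submodule.mem_top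
        · rw [map_add]; exact add_mem ha hb
      have hcycI : ∀ {k} (u : N k), u ∈ idl f j • (⊤ : Submodule R (N k)) → f j • u ∈ idl f j • (⊤ : Submodule R (N k)) :=
        fun u hu => Submodule.smul_mem _ _ hu
      constructor
      · intro z hz
        obtain ⟨w, hw⟩ := mem_idl_succ_smul (show d q z ∈ _ from hz)
        have hwc : Cyc d (idl f j) q w := by
          cases q with
          | zero => trivial
          | succ p =>
            refine H.regular j (Nat.lt_of_succ_le hj) p _ ?_
            have h1 : d p (d (p + 1) z - f j • w) ∈ idl f j • (⊤ : Submodule R (N p)) := by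
              refine Submodule.smul_induction_on hw (fun t ht n _ => ?_) fun a b ha hb => ?_
              · rw [map_smul]; exact Submodule.smul_mem_smul ht Submodule.mem_top
              · rw [map_add]; exact add_mem ha hb
            rw [map_sub, H.res.dd, zero_sub, map_smul] at h1
            simpa using neg_mem h1
        obtain ⟨ν, hν⟩ := hS' w hwc
        obtain ⟨_, ⟨h, rfl⟩, u₁, hu₁, he⟩ := Submodule.mem_sup.1 hν
        let z' := z - ∑ J : Idx j q, C (ν J) (q + 1) (Idx.new J).1 - f j • h
        have hz' : Cyc d (idl f j) (q + 1) z' := by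
          show d q z' ∈ idl f j • (⊤ : Submodule R (N q))
          have e : d q z' = (d q z - f j • w) + f j • u₁
              - ∑ J : Idx j q, (d q (C (ν J) (q + 1) (Idx.new J).1) - f j • C (ν J) q J.1) := by
            have hw' : w = d q h + u₁ + ∑ J : Idx j q, C (ν J) q J.1 := by rw [he]; abel
            rw [map_sub, map_sub, map_sum, map_smul, Finset.sum_sub_distrib, hw', smul_add, smul_add, Finset.smul_sum]
            abel
          rw [e]
          exact sub_mem (add_mem hw (hcycI _ hu₁)) (Submodule.sum_mem _ fun J _ => hnew _ J)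
        obtain ⟨μ, hμ⟩ := hS z' hz'
        obtain ⟨F, hFo, hFn⟩ := Idx.exists_split μ ν
        refine ⟨F, ?_⟩
        rw [Idx.sum_split]
        simp only [hFo, hFn]
        have e : z - (∑ J : Idx j (q + 1), C (μ J) (q + 1) J.1 + ∑ J : Idx j q, C (ν J) (q + 1) (Idx.new J).1) =
            (z' - ∑ J : Idx j (q + 1), C (μ J) (q + 1) J.1) + f j • h := by
          simp only [z']; abel
        show z - (∑ J : Idx j (q + 1), C (μ J) (q + 1) J.1 + ∑ J : Idx j q, C (ν J) (q + 1) (Idx.new J).1) ∈ _
        rw [e]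
        exact add_mem (Bd_mono d hle _ hμ)
          (Submodule.mem_sup_right (Submodule.smul_mem_smul (mem_idl (Nat.lt_succ_self j)) Submodule.mem_top))
      · intro F hF
        rw [Idx.sum_split] at hF
        obtain ⟨_, ⟨h, rfl⟩, u', hu', he⟩ := Submodule.mem_sup.1 hF
        obtain ⟨w, hw⟩ := mem_idl_succ_smul hu'
        have h1 : f j • (∑ J : Idx j q, C (F (Idx.new J)) q J.1 - d q w) ∈ idl f j • (⊤ : Submodule R (N q)) := by
          have e : f j • (∑ J : Idx j q, C (F (Idx.new J)) q J.1 - d q w) = d q (u' - f j • w)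
              - ∑ J : Idx j (q + 1), d q (C (F (Idx.old J)) (q + 1) J.1)
              - ∑ J : Idx j q, (d q (C (F (Idx.new J)) (q + 1) (Idx.new J).1) - f j • C (F (Idx.new J)) q J.1) := by
            have hd := congrArg (d q) he
            rw [map_add, H.res.dd, zero_add, map_add, map_sum, map_sum] at hd
            rw [map_sub, map_smul, hd, Finset.sum_sub_distrib, smul_sub, Finset.smul_sum]
            simp only [show ∀ J : Idx j (q + 1), (Idx.old J).1 = J.1 from fun _ => rfl]
            abel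
          rw [e]
          exact sub_mem (sub_mem (hdI _ hw) (Submodule.sum_mem _ fun J _ => hold _ J))
            (Submodule.sum_mem _ fun J _ => hnew _ J)
        have h2 := H.regular j (Nat.lt_of_succ_le hj) q _ h1
        have hν0 : (fun J => F (Idx.new J)) = 0 := hI' _ (by
          have := add_mem (Submodule.mem_sup_right h2) (Submodule.mem_sup_left (LinearMap.mem_range_self (d q) w) : d q w ∈ Bd d (idl f j) q)
          simpa [Bd] using this)
        have hν : ∀ J, F (Idx.new J) = 0 := fun J => congrFun hν0 J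
        simp only [hν, hC.2, Finset.sum_const_zero, add_zero, zero_sub] at he h1 h2
        have hwc : Cyc d (idl f j) (q + 1) w := by simpa [Cyc] using h2
        obtain ⟨ω, hω⟩ := hS w hwc
        have hfw : f j • w ∈ Bd d (idl f j) (q + 1) := by
          have e : f j • w = f j • (w - ∑ J : Idx j (q + 1), C (ω J) (q + 1) J.1) +
              ∑ J : Idx j (q + 1), f j • C (ω J) (q + 1) J.1 := by
            rw [smul_sub, Finset.smul_sum]; abel
          rw [e]
          exact add_mem (Submodule.smul_mem _ _ hω) (Submodule.sum_mem _ fun J _ => H.smul_mem hC j _ J)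
        have hμ0 : (fun J => F (Idx.old J)) = 0 := hI _ (by
          rw [show (∑ J : Idx j (q + 1), C (F (Idx.old J)) (q + 1) J.1) = d (q + 1) h + (u' - f j • w) + f j • w by
            rw [add_assoc, sub_add_cancel]; exact he.symm]
          exact add_mem (add_mem (Submodule.mem_sup_left ⟨h, rfl⟩) (Submodule.mem_sup_right hw)) hfw)
        exact Idx.ext_split (fun J => congrFun hμ0 J) fun J => hν J

theorem Data.rep_surj (H : Data d ε f r) {q : ℕ} (z : N q) (hz : Cyc d (idl f r) q z) :
    ∃ μ : Idx r q → M, ∀ Z : Idx r q → N q, (∀ J, Rep d ε (f ∘ J.1) (μ J) (Z J)) →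
      z - ∑ J, Z J ∈ Bd d (idl f r) q := by
  obtain ⟨C, hC⟩ := H.exists_choice q
  obtain ⟨μ, hμ⟩ := (H.main q r le_rfl C hC).1 z hz
  refine ⟨μ, fun Z hZ => ?_⟩
  have e : z - ∑ J, Z J = (z - ∑ J, C (μ J) q J.1) + ∑ J, (C (μ J) q J.1 - Z J) := by
    rw [Finset.sum_sub_distrib]; abel
  rw [e]
  exact add_mem hμ (Submodule.sum_mem _ fun J _ =>
    ((hC.1 (μ J)).rep J.1).sub_mem H.res (hZ J) _ fun k => mem_idl (J.2.2 k))

theorem Data.rep_inj (H : Data d ε f r) {q : ℕ} (μ : Idx r q → M) (Z : Idx r q → N q)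
    (hZ : ∀ J, Rep d ε (f ∘ J.1) (μ J) (Z J)) (h : ∑ J, Z J ∈ Bd d (idl f r) q) : μ = 0 := by
  obtain ⟨C, hC⟩ := H.exists_choice q
  refine (H.main q r le_rfl C hC).2 μ ?_
  have e : ∑ J, C (μ J) q J.1 = ∑ J, Z J + ∑ J, (C (μ J) q J.1 - Z J) := by
    rw [Finset.sum_sub_distrib]; abel
  rw [e]
  exact add_mem h (Submodule.sum_mem _ fun J _ =>
    ((hC.1 (μ J)).rep J.1).sub_mem H.res (hZ J) _ fun k => mem_idl (J.2.2 k))

end Basis

section Wedge

variable {S : Type*} [CommRing S] {K : Type*} [AddCommGroup K] [Module S K]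

/-- The wedges of decreasing tuples of a basis form a basis. -/
theorem exists_basis_wedge {r : ℕ} (b : Module.Basis (Fin r) S K) (g : ℕ → K) (hg : ∀ i : Fin r, g i = b i) (q : ℕ) :
    ∃ B : Module.Basis (Idx r q) S ↥(⋀[S]^q K), ∀ J : Idx r q, B J = exteriorPower.ιMulti S q (g ∘ J.1) := by
  let e : (Fin q ↪o (Fin r)ᵒᵈ) ≃ Idx r q :=
    { toFun := fun v => ⟨fun i => (OrderDual.ofDual (v i) : Fin r).1, fun a b h => v.strictMono h, fun i => (OrderDual.ofDual (v i)).2⟩
      invFun := fun J => OrderEmbedding.ofStrictMono (fun i => OrderDual.toDual (⟨J.1 i, J.2.2 i⟩ : Fin r))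
        fun a b h => J.2.1 h
      left_inv := fun v => by ext; rfl
      right_inv := fun J => rfl }
  let b' : Module.Basis (Fin r)ᵒᵈ S K := b.reindex OrderDual.toDual
  refine ⟨((b'.exteriorPower q).reindex (Set.powersetCard.ofFinEmbEquiv.symm.trans e)), fun J => ?_⟩
  rw [Module.Basis.reindex_apply, exteriorPower.basis_apply, exteriorPower.ιMulti_family]
  refine congrArg _ (funext fun i => ?_)
  simp [b', e, ← hg]
  rfl

end Wedge

end Groth.Agent.H28.SelfInt
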