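import Groth.Agent.Lib.KoszulZigzag

/-!
# Families lifting the Koszul differential to a resolution

For a resolution `(N, d, ε)` of a module `M` and functions `a` killing `m`, a family is a sequence of cochains
`c p` with values in `N p`, starting at a lift of `m`, and with `d (c (p+1)) = D (c p)` for the Koszul differential `D`.
Its last value modulo boundaries and `(a) N` is the class `θ(a, m)` in the Tor module.
-/

set_option autoImplicit false
set_option linter.style.haveILetI false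
set_option linter.unusedSectionVars false

noncomputable section

namespace Groth.Agent.H28.SelfInt

open KoszulZigzag (lin del del_apply del_del comp_del exists_lift)

variable {R : Type*} [CommRing R] {ι κ : Type*} {V W : Type*} [AddCommGroup V] [Module R V] [AddCommGroup W] [Module R W]

/-- The Koszul differential of arbitrary cochains. -/
def D (a : ι → R) {p : ℕ} (c : (Fin p → ι) → V) : (Fin (p + 1) → ι) → V :=
  fun v => ∑ j : Fin (p + 1), (-1 : ℤ) ^ (j : ℕ) • a (v j) • c (j.removeNth v)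

theorem D_add (a : ι → R) {p : ℕ} (c c' : (Fin p → ι) → V) : D a (c + c') = D a c + D a c' := by
  funext v; simp [D, smul_add, Finset.sum_add_distrib]

theorem D_sub (a : ι → R) {p : ℕ} (c c' : (Fin p → ι) → V) : D a (c - c') = D a c - D a c' := by
  funext v; simp [D, smul_sub, Finset.sum_sub_distrib]

theorem D_smul (a : ι → R) {p : ℕ} (b : R) (c : (Fin p → ι) → V) : D a (b • c) = b • D a c := by
  funext v; simp [D, Finset.smul_sum, smul_comm b]

theorem D_zero (a : ι → R) {p : ℕ} : D a (0 : (Fin p → ι) → V) = 0 := by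
  funext v; simp [D]

theorem map_D (g : V →ₗ[R] W) (a : ι → R) {p : ℕ} (c : (Fin p → ι) → V) (v : Fin (p + 1) → ι) :
    g (D a c v) = D a (fun w => g (c w)) v := by
  simp [D]

theorem D_comp (a : ι → R) (f : κ → ι) {p : ℕ} (c : (Fin p → ι) → V) (v : Fin (p + 1) → κ) :
    D (a ∘ f) (fun w => c (f ∘ w)) v = D a c (f ∘ v) := rfl

theorem D_cons (a : ι → R) {p : ℕ} (c : (Fin (p + 1) → ι) → V) (x : ι) (v : Fin (p + 1) → ι) :
    D a c (Fin.cons x v) = a x • c v - D a (fun w => c (Fin.cons x w)) v := by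
  rw [D, Fin.sum_univ_succ, sub_eq_add_neg, D, ← Finset.sum_neg_distrib]
  congr 1
  · simp
  · refine Finset.sum_congr rfl fun j _ => ?_
    rw [Fin.cons_succ, Fin.val_succ, pow_succ, mul_neg_one, neg_smul]
    congr 4
    funext k
    refine Fin.cases ?_ (fun k => ?_) k <;> simp [Fin.removeNth_apply]

theorem D_D (a : ι → R) {p : ℕ} : ∀ (c : (Fin p → ι) → V), D a (D a c) = 0 := by
  induction p with
  | zero =>
    intro c
    funext v
    have h : ∀ (w : Fin 1 → ι), D a c w = a (w 0) • c ![] := fun w => by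
      simp [D, Subsingleton.elim ((0 : Fin 1).removeNth w) ![]]
    simp [D, Fin.sum_univ_two, Subsingleton.elim _ ![], Fin.removeNth_apply, smul_comm (a (v 1))]
  | succ p ih =>
    intro c
    funext v
    obtain ⟨x, v, rfl⟩ : ∃ x w, v = Fin.cons x w := ⟨v 0, Fin.tail v, (Fin.cons_self_tail v).symm⟩
    have h : (fun w => D a c (Fin.cons x w)) = a x • c - D a (fun w => c (Fin.cons x w)) :=
      funext fun w => D_cons a c x w
    rw [D_cons, h, D_sub, D_smul, ih]
    simp

theorem D_mem (a : ι → R) {p : ℕ} (c : (Fin p → ι) → V) (I : Ideal R) (v : Fin (p + 1) → ι)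
    (hI : ∀ j, a (v j) ∈ I) : D a c v ∈ I • (⊤ : Submodule R V) :=
  Submodule.sum_mem _ fun j _ => zsmul_mem (Submodule.smul_mem_smul (hI j) Submodule.mem_top) _

section Fam

variable {N : ℕ → Type*} [∀ p, AddCommGroup (N p)] [∀ p, Module R (N p)] {M : Type*} [AddCommGroup M] [Module R M]
  (d : ∀ p, N (p + 1) →ₗ[R] N p) (ε : N 0 →ₗ[R] M)

/-- A family up to degree `q`. -/
structure IsFam (a : ι → R) (m : M) (q : ℕ) (c : ∀ p, (Fin p → ι) → N p) : Prop where
  aug : ε (c 0 ![]) = m
  step : ∀ p, p < q → ∀ v, d p (c (p + 1) v) = D a (c p) v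

/-- The value of a family at the tautological tuple. -/
def Rep {q : ℕ} (a : Fin q → R) (m : M) (z : N q) : Prop :=
  ∃ c, IsFam d ε a m q c ∧ c q id = z

/-- A resolution. -/
structure IsRes : Prop where
  surj : Function.Surjective ε
  eps_d : ∀ w, ε (d 0 w) = 0
  dd : ∀ p w, d p (d (p + 1) w) = 0
  ex0 : ∀ z, ε z = 0 → ∃ w, d 0 w = z
  ex : ∀ p z, d p z = 0 → ∃ w, d (p + 1) w = z

/-- Boundaries modulo an ideal. -/
def Bd (I : Ideal R) (q : ℕ) : Submodule R (N q) := LinearMap.range (d q) ⊔ I • ⊤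

theorem Bd_mono {I J : Ideal R} (h : I ≤ J) (q : ℕ) : Bd d I q ≤ Bd d J q :=
  sup_le_sup le_rfl (Submodule.smul_mono h le_rfl)

/-- Cycles modulo an ideal. -/
def Cyc (I : Ideal R) : ∀ q, N q → Prop
  | 0, _ => True
  | p + 1, z => d p z ∈ I • (⊤ : Submodule R (N p))

variable {d ε}

theorem IsFam.comp {a : ι → R} {m : M} {q : ℕ} {c : ∀ p, (Fin p → ι) → N p} (h : IsFam d ε a m q c) (f : κ → ι) :
    IsFam d ε (a ∘ f) m q (fun p w => c p (f ∘ w)) where
  aug := by rw [Subsingleton.elim (f ∘ (![] : Fin 0 → κ)) ![], h.aug]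
  step p hp v := h.step p hp (f ∘ v)

theorem IsFam.mono {a : ι → R} {m : M} {q q' : ℕ} {c : ∀ p, (Fin p → ι) → N p} (h : IsFam d ε a m q c)
    (hq : q' ≤ q) : IsFam d ε a m q' c :=
  ⟨h.aug, fun p hp => h.step p (lt_of_lt_of_le hp hq)⟩

theorem IsFam.add {a : ι → R} {m m' : M} {q : ℕ} {c c' : ∀ p, (Fin p → ι) → N p} (h : IsFam d ε a m q c)
    (h' : IsFam d ε a m' q c') : IsFam d ε a (m + m') q (fun p => c p + c' p) where
  aug := by simp [h.aug, h'.aug]
  step p hp v := by simp [D_add, h.step p hp v, h'.step p hp v]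

theorem IsFam.smul {a : ι → R} {m : M} {q : ℕ} {c : ∀ p, (Fin p → ι) → N p} (b : R) (h : IsFam d ε a m q c) :
    IsFam d ε a (b • m) q (fun p => b • c p) where
  aug := by simp [h.aug]
  step p hp v := by simp [D_smul, h.step p hp v]

theorem IsFam.zero (a : ι → R) (q : ℕ) : IsFam d ε a 0 q (fun _ => 0) where
  aug := by simp
  step p hp v := by simp [D_zero]

theorem IsFam.rep {a : ι → R} {m : M} {q : ℕ} {c : ∀ p, (Fin p → ι) → N p} (h : IsFam d ε a m q c)
    (v : Fin q → ι) : Rep d ε (a ∘ v) m (c q v) :=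
  ⟨_, h.comp v, rfl⟩

theorem Rep.add {q : ℕ} {a : Fin q → R} {m m' : M} {z z' : N q} (h : Rep d ε a m z) (h' : Rep d ε a m' z') :
    Rep d ε a (m + m') (z + z') := by
  obtain ⟨c, hc, rfl⟩ := h
  obtain ⟨c', hc', rfl⟩ := h'
  exact ⟨_, hc.add hc', rfl⟩

theorem Rep.smul {q : ℕ} {a : Fin q → R} {m : M} {z : N q} (b : R) (h : Rep d ε a m z) :
    Rep d ε a (b • m) (b • z) := by
  obtain ⟨c, hc, rfl⟩ := h
  exact ⟨_, hc.smul b, rfl⟩

theorem Rep.zero {q : ℕ} (a : Fin q → R) : Rep d ε a 0 (0 : N q) := ⟨_, IsFam.zero a q, rfl⟩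

theorem Rep.cyc {q : ℕ} {a : Fin q → R} {m : M} {z : N q} (h : Rep d ε a m z) (I : Ideal R)
    (hI : ∀ i, a i ∈ I) : Cyc d I q z := by
  obtain ⟨c, hc, rfl⟩ := h
  cases q with
  | zero => trivial
  | succ p =>
    show d p (c (p + 1) id) ∈ _
    rw [hc.step p (Nat.lt_succ_self p)]
    exact D_mem a _ I _ fun j => hI j

variable (hR : IsRes d ε)
include hR

/-- Two families differ by boundaries and multiples of the functions. -/
theorem IsFam.sub_mem {a : ι → R} {m : M} {q : ℕ} {c c' : ∀ p, (Fin p → ι) → N p} (h : IsFam d ε a m q c)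
    (h' : IsFam d ε a m q c') (v : Fin q → ι) (I : Ideal R) (hI : ∀ j, a (v j) ∈ I) :
    c q v - c' q v ∈ Bd d I q := by
  have key : ∀ p, p ≤ q → ∃ h₁ : (Fin p → ι) → N (p + 1), (∀ w, D a (c p - c' p) w = d p (D a h₁ w)) ∧
      ∀ w : Fin p → ι, (∀ j, a (w j) ∈ I) → c p w - c' p w ∈ Bd d I p := by
    intro p
    induction p with
    | zero =>
      intro _
      obtain ⟨u, hu⟩ := hR.ex0 (c 0 ![] - c' 0 ![]) (by rw [map_sub, h.aug, h'.aug, sub_self])
      have he : c 0 - c' 0 = fun _ => d 0 u := funext fun w => by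
        rw [Pi.sub_apply, Subsingleton.elim w ![], hu]
      refine ⟨fun _ => u, fun w => by rw [he, map_D], fun w _ => ?_⟩
      exact Submodule.mem_sup_left ⟨u, by rw [hu, Subsingleton.elim w ![]]⟩
    | succ p ih =>
      intro hp
      obtain ⟨h₁, hh₁, -⟩ := ih (Nat.le_of_succ_le hp)
      have hex : ∀ w, ∃ u, d (p + 1) u = c (p + 1) w - c' (p + 1) w - D a h₁ w := fun w => by
        refine hR.ex p _ ?_
        rw [map_sub, map_sub, h.step p hp, h'.step p hp, ← hh₁, D_sub]
        simp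
      choose h₂ hh₂ using hex
      have he : c (p + 1) - c' (p + 1) = D a h₁ + fun w => d (p + 1) (h₂ w) := funext fun w => by
        rw [Pi.add_apply, hh₂]; simp
      refine ⟨h₂, fun w => by rw [he, D_add, D_D, zero_add, map_D], fun w hw => ?_⟩
      rw [show c (p + 1) w - c' (p + 1) w = D a h₁ w + d (p + 1) (h₂ w) from congrFun he w]
      exact add_mem (Submodule.mem_sup_right (D_mem a h₁ I w hw)) (Submodule.mem_sup_left ⟨_, rfl⟩)
  obtain ⟨_, _, hk⟩ := key q le_rfl
  exact hk v hI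

theorem Rep.sub_mem {q : ℕ} {a : Fin q → R} {m : M} {z z' : N q} (h : Rep d ε a m z) (h' : Rep d ε a m z')
    (I : Ideal R) (hI : ∀ i, a i ∈ I) : z - z' ∈ Bd d I q := by
  obtain ⟨c, hc, rfl⟩ := h
  obtain ⟨c', hc', rfl⟩ := h'
  exact IsFam.sub_mem hR hc hc' id I hI

/-- Alternating families exist. -/
theorem exists_alt {r : ℕ} (a : Fin r → R) (m : M) (hm : ∀ i, a i • m = 0) :
    ∃ C : ∀ p, (Fin r → R) [⋀^Fin p]→ₗ[R] N p, ε (C 0 ![]) = m ∧
      ∀ p, (d p).compAlternatingMap (C (p + 1)) = del (lin a) (C p) := by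
  classical
  let ℓ := lin a
  let Q : ℕ → Type _ := fun p => {c : (Fin r → R) [⋀^Fin p]→ₗ[R] N p // ∀ v, ∃ w, d p w = del ℓ c v}
  obtain ⟨z₀, hz₀⟩ := hR.surj m
  have h0 : ∀ v, ∃ w, d 0 w = del ℓ (AlternatingMap.constOfIsEmpty R (Fin r → R) (Fin 0) z₀) v := fun v => by
    refine hR.ex0 _ ?_
    rw [KoszulZigzag.del_zero_apply, map_smul]
    simp [hz₀, ℓ, lin, Fintype.linearCombination_apply, Finset.sum_smul, mul_smul, hm]
  have hs : ∀ p (c : Q p), ∃ c' : Q (p + 1), (d p).compAlternatingMap c'.1 = del ℓ c.1 := fun p c => by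
    obtain ⟨y, hy⟩ := exists_lift (d p) (del ℓ c.1) c.2
    refine ⟨⟨y, fun v => hR.ex p _ ?_⟩, hy⟩
    have h2 := congrArg (fun z : (Fin r → R) [⋀^Fin (p + 2)]→ₗ[R] N p => z v)
      ((comp_del (d p) ℓ y).trans ((congrArg (del ℓ) hy).trans (del_del ℓ c.1)))
    exact h2
  choose nxt hnxt using hs
  let C : ∀ p, Q p := fun p => Nat.rec (motive := Q) ⟨_, h0⟩ nxt p
  exact ⟨fun p => (C p).1, hz₀, fun p => hnxt p (C p)⟩

/-- The alternating value for all tuples of combinations of `a`. -/
theorem exists_univ {r : ℕ} (a : Fin r → R) (m : M) (hm : ∀ i, a i • m = 0) (q : ℕ) :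
    ∃ C : (Fin r → R) [⋀^Fin q]→ₗ[R] N q, ∀ A : Fin q → Fin r → R, Rep d ε (fun i => lin a (A i)) m (C A) := by
  obtain ⟨C, hC0, hC⟩ := exists_alt hR a m hm
  refine ⟨C q, fun A => ⟨fun p w => C p (A ∘ w), ⟨?_, fun p _ v => ?_⟩, rfl⟩⟩
  · rw [Subsingleton.elim (A ∘ (![] : Fin 0 → Fin q)) ![]]
    exact hC0
  · refine (congrArg (fun z : (Fin r → R) [⋀^Fin (p + 1)]→ₗ[R] N p => z (A ∘ v)) (hC p)).trans ?_
    rw [del_apply]
    rfl

theorem exists_fam {r : ℕ} (a : Fin r → R) (m : M) (hm : ∀ i, a i • m = 0) (q : ℕ) :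
    ∃ c, IsFam d ε a m q c := by
  obtain ⟨C, hC0, hC⟩ := exists_alt hR a m hm
  refine ⟨fun p w => C p fun j => Pi.single (w j) 1, ⟨?_, fun p _ v => ?_⟩⟩
  · exact (congrArg (fun A => ε (C 0 A)) (Subsingleton.elim _ _)).trans hC0
  · refine (congrArg (fun z : (Fin r → R) [⋀^Fin (p + 1)]→ₗ[R] N p => z fun j => Pi.single (v j) 1) (hC p)).trans ?_
    rw [del_apply]
    refine Finset.sum_congr rfl fun j _ => ?_
    rw [KoszulZigzag.lin_single]
    rfl

theorem Rep.exists {q : ℕ} (a : Fin q → R) (m : M) (hm : ∀ i, a i • m = 0) : ∃ z, Rep d ε a m z :=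
  (exists_fam hR a m hm q).elim fun c hc => ⟨c q id, c, hc, rfl⟩

/-- Additivity in one function. -/
theorem Rep.exists_add {q : ℕ} (a : Fin q → R) (i : Fin q) (x y : R) (m : M) (ha : ∀ j, j ≠ i → a j • m = 0)
    (hx : x • m = 0) (hy : y • m = 0) :
    ∃ z z', Rep d ε (Function.update a i x) m z ∧ Rep d ε (Function.update a i y) m z' ∧
      Rep d ε (Function.update a i (x + y)) m (z + z') := by
  classical
  let a' : Fin (q + 1) → R := Fin.snoc (Function.update a i x) y
  obtain ⟨C, hC⟩ := exists_univ hR a' m (fun j => by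
    refine Fin.lastCases ?_ (fun j => ?_) j
    · simpa only [a', Fin.snoc_last] using hy
    · by_cases h : j = i
      · subst h; simpa [a'] using hx
      · simpa [a', h] using ha j h) q
  let A : Fin q → Fin (q + 1) → R := fun j => Pi.single j.castSucc 1
  have key : ∀ (v : Fin (q + 1) → R) (t : R), lin a' v = t →
      Rep d ε (Function.update a i t) m (C (Function.update A i v)) := fun v t ht => by
    convert hC (Function.update A i v) using 1
    funext j
    by_cases h : j = i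
    · subst h; simp [ht]
    · simp [h, A, a', KoszulZigzag.lin_single]
  have h1 : lin a' (Pi.single i.castSucc 1) = x := by simp [a', KoszulZigzag.lin_single]
  have h2 : lin a' (Pi.single (Fin.last q) 1) = y := by simp only [a', KoszulZigzag.lin_single, Fin.snoc_last]
  refine ⟨_, _, key _ x h1, key _ y h2, ?_⟩
  rw [← C.map_update_add]
  exact key _ (x + y) (by rw [map_add, h1, h2])

/-- Homogeneity in one function. -/
theorem Rep.exists_smul {q : ℕ} (a : Fin q → R) (i : Fin q) (b x : R) (m : M) (ha : ∀ j, j ≠ i → a j • m = 0)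
    (hx : x • m = 0) :
    ∃ z, Rep d ε (Function.update a i x) m z ∧ Rep d ε (Function.update a i (b * x)) m (b • z) := by
  classical
  let a' : Fin q → R := Function.update a i x
  obtain ⟨C, hC⟩ := exists_univ hR a' m (fun j => by
    by_cases h : j = i
    · subst h; simpa [a'] using hx
    · simpa [a', h] using ha j h) q
  let A : Fin q → Fin q → R := fun j => Pi.single j 1
  have key : ∀ (v : Fin q → R) (t : R), lin a' v = t →
      Rep d ε (Function.update a i t) m (C (Function.update A i v)) := fun v t ht => by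
    convert hC (Function.update A i v) using 1
    funext j
    by_cases h : j = i
    · subst h; simp [ht]
    · simp [h, A, a', KoszulZigzag.lin_single]
  have h1 : lin a' (Pi.single i 1) = x := by simp [a', KoszulZigzag.lin_single]
  refine ⟨_, key _ x h1, ?_⟩
  rw [← C.map_update_smul]
  exact key _ (b * x) (by rw [map_smul, h1, smul_eq_mul])

/-- Repeated functions give zero. -/
theorem Rep.zero_of_eq {q : ℕ} (a : Fin q → R) {i j : Fin q} (hij : i ≠ j) (h : a i = a j) (m : M)
    (ha : ∀ k, a k • m = 0) : Rep d ε a m (0 : N q) := by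
  classical
  obtain ⟨C, hC⟩ := exists_univ hR a m ha q
  let A : Fin q → Fin q → R := fun k => Pi.single (if k = j then i else k) 1
  have hz : C A = 0 := C.map_eq_zero_of_eq A (i := i) (j := j) (by simp [A, hij]) hij
  rw [← hz]
  convert hC A using 1
  funext k
  by_cases hk : k = j
  · subst hk; simp [A, KoszulZigzag.lin_single, h]
  · simp [A, hk, KoszulZigzag.lin_single]

end Fam

end Groth.Agent.H28.SelfInt
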