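import Groth.Agent.H28.SelfInt.Basis

/-!
# Wedges of decreasing tuples of generators span
-/

set_option autoImplicit false
set_option linter.style.haveILetI false

noncomputable section

namespace Groth.Agent.H28.SelfInt

variable {S : Type*} [CommRing S] {K : Type*} [AddCommGroup K] [Module S K]

/-- The wedges of decreasing tuples of generators span. -/
theorem span_wedge {r : ℕ} (g : ℕ → K) (hg : Submodule.span S (Set.range fun i : Fin r => g i) = ⊤) (q : ℕ) :
    Submodule.span S (Set.range fun J : Idx r q => exteriorPower.ιMulti S q (g ∘ J.1)) = ⊤ := by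
  let v : (Fin r)ᵒᵈ → K := fun i => g (OrderDual.ofDual i).1
  have hv : Submodule.span S (Set.range v) = ⊤ := by
    rw [← hg]
    refine congrArg _ ?_
    exact (EquivLike.range_comp (fun i : Fin r => g i) (OrderDual.ofDual : (Fin r)ᵒᵈ ≃ Fin r))
  refine eq_top_iff.2 ?_
  rw [← exteriorPower.ιMulti_family_span_of_span S hv (n := q)]
  refine Submodule.span_mono ?_
  rintro _ ⟨s, rfl⟩
  let e := Set.powersetCard.ofFinEmbEquiv.symm s
  exact ⟨⟨fun i => (OrderDual.ofDual (e i)).1, fun a b h => e.strictMono h, fun i => (OrderDual.ofDual (e i)).2⟩, rfl⟩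

/-- Elements of a tensor product with a spanning family on the right. -/
theorem exists_eq_sum_tmul {N : Type*} [AddCommGroup N] [Module S N] {σ : Type*} [Fintype σ] (b : σ → K)
    (hb : Submodule.span S (Set.range b) = ⊤) (z : TensorProduct S N K) :
    ∃ μ : σ → N, z = ∑ j, TensorProduct.tmul S (μ j) (b j) := by
  induction z using TensorProduct.induction_on with
  | zero => exact ⟨0, by simp⟩
  | tmul n k =>
    obtain ⟨c, hc⟩ := (Submodule.mem_span_range_iff_exists_fun S).1 (hb ▸ Submodule.mem_top : k ∈ Submodule.span S (Set.range b))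
    exact ⟨fun j => c j • n, by rw [← hc, TensorProduct.tmul_sum]; simp [TensorProduct.smul_tmul]⟩
  | add x y hx hy =>
    obtain ⟨μ, rfl⟩ := hx
    obtain ⟨ν, rfl⟩ := hy
    exact ⟨μ + ν, by simp [TensorProduct.add_tmul, Finset.sum_add_distrib]⟩

end Groth.Agent.H28.SelfInt
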