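import Groth.Agent.H28.SelfInt.Theta
import Groth.Agent.H28.SelfInt.Span
import Groth.Agent.Synt29.ExtPowPull

/-!
# The Tor sheaves of a regular immersion are exterior powers of the conormal sheaf
-/

set_option autoImplicit false
set_option linter.style.haveILetI false
set_option linter.unusedSectionVars false
set_option backward.isDefEq.respectTransparency false
set_option backward.isDefEq.respectTransparency.types false
set_option maxHeartbeats 1000000

universe u

open CategoryTheory CategoryTheory.Limits AlgebraicGeometry TopologicalSpace Opposite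
open Groth.Agent.AModX
open scoped TensorProduct

noncomputable section

namespace Groth.Agent.H28.SelfInt

variable {X Y : Scheme.{u}} {i : Y ⟶ X} [IsClosedImmersion i]

/-- Affine opens on which the subscheme is empty or cut out by a regular sequence. -/
def goods (i : Y ⟶ X) [IsClosedImmersion i] : Set X.Opens :=
  {W | IsAffineOpen W ∧ (i ⁻¹ᵁ W = ⊥ ∨ ∃ (r : ℕ) (f : Fin r → ConormalWedge.Id i W), ConormalWedge.IsGens i W f)}

theorem exists_gens (hi : RegImm.IsRegularImmersion RegImm.Kind.regular i) (y : Y) :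
    ∃ (W : X.Opens) (_ : IsAffineOpen W) (r : ℕ) (f : Fin r → ConormalWedge.Id i W), i y ∈ W ∧
      ConormalWedge.IsGens i W f := by
  obtain ⟨U, hyU, -, rs, hreg, hker⟩ := hi.2 y
  have hk : RingHom.ker (i.app U.1).hom = Ideal.ofList rs := hker
  choose f hf using fun j : Fin rs.length =>
    ConormalWedge.exists_fn i (rs[j]) (by rw [hk]; exact Ideal.subset_span (List.getElem_mem j.2))
  have hl : (List.ofFn fun j => ConormalWedge.fn i (f j)) = rs := by
    simp only [hf]
    exact List.ofFn_getElem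
  refine ⟨U.1, U.2, _, f, hyU, ⟨by rw [hl]; exact hreg.toIsWeaklyRegular, ?_⟩⟩
  rw [hk, ← congrArg Ideal.ofList hl]
  exact congrArg Ideal.span (Set.ext fun a => (List.mem_ofFn.trans Iff.rfl).symm)

theorem isBasis_goods (hi : RegImm.IsRegularImmersion RegImm.Kind.regular i) : Opens.IsBasis (goods i) := by
  refine Opens.isBasis_iff_nbhd.2 fun {U p} hp => ?_
  by_cases hpY : p ∈ Set.range i
  · obtain ⟨y, rfl⟩ := hpY
    obtain ⟨W, hW, r, f, hyW, hf⟩ := exists_gens hi y
    obtain ⟨g, hg, hyg⟩ := hW.exists_basicOpen_le ⟨i y, hp⟩ hyW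
    exact ⟨X.basicOpen g, ⟨hW.basicOpen g, Or.inr ⟨r, _, hf.basicOpen i hW g⟩⟩, hyg, hg⟩
  · let O : X.Opens := U ⊓ ⟨(Set.range i)ᶜ, i.isClosedEmbedding.isClosed_range.isOpen_compl⟩
    obtain ⟨_, ⟨W, hW, rfl⟩, hpW, hWO⟩ := X.isBasis_affineOpens.exists_subset_of_mem_open
      (show p ∈ O from ⟨hp, hpY⟩) O.2
    refine ⟨W, ⟨hW, Or.inl (bot_unique fun x hx => ?_)⟩, hpW, fun q hq => (hWO hq).1⟩
    exact ((hWO hx).2 ⟨x, rfl⟩).elim

theorem one_mem_J {x : X} {W : X.Opens} (hx : x ∈ W) (hbot : i ⁻¹ᵁ W = ⊥) : (1 : X.presheaf.stalk x) ∈ J i x := by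
  rw [← map_one (gR hx)]
  refine gR_mem_J i hx 1 ?_
  haveI : Subsingleton Γ(Y, i ⁻¹ᵁ W) := by rw [hbot]; infer_instance
  exact Subsingleton.elim _ _

/-- The functions of a system of generators at a point, padded by zero. -/
def fx {W : X.Opens} {r : ℕ} (f : Fin r → ConormalWedge.Id i W) {x : X} (hx : x ∈ W) : ℕ → X.presheaf.stalk x :=
  fun n => if h : n < r then gR hx (ConormalWedge.fn i (f ⟨n, h⟩)) else 0

variable {W : X.Opens} {r : ℕ} {f : Fin r → ConormalWedge.Id i W}

theorem fx_eq {x : X} (hx : x ∈ W) (j : Fin r) : fx f hx j = gR hx (ConormalWedge.fn i (f j)) := by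
  rw [fx, dif_pos j.2]

theorem fx_comp {q : ℕ} {x : X} (hx : x ∈ W) (J' : Idx r q) :
    fx f hx ∘ J'.1 = fun j => gR hx (ConormalWedge.fn i (f ⟨J'.1 j, J'.2.2 j⟩)) :=
  funext fun j => fx_eq hx ⟨J'.1 j, J'.2.2 j⟩

theorem idl_fx (hW : IsAffineOpen W) (hf : ConormalWedge.IsGens i W f) {x : X} (hx : x ∈ W) :
    idl (fx f hx) r = J i x := by
  refine le_antisymm (Ideal.span_le.2 ?_) fun t ht => ?_
  · rintro _ ⟨n, hn, rfl⟩
    rw [show fx f hx n = _ from fx_eq hx ⟨n, hn⟩]
    exact gR_mem_J i hx _ (ConormalWedge.fn_mem i _)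
  · obtain ⟨V, hVW, hxV, b, rfl, hb⟩ := exists_of_mem_J i ht hx
    obtain ⟨g, hg, hxg⟩ := hW.exists_basicOpen_le ⟨x, hxV⟩ hx
    have hb' : resR hg b ∈ RingHom.ker (i.app (X.basicOpen g)).hom := by
      show i.app (X.basicOpen g) (X.presheaf.map (homOfLE hg).op b) = 0
      refine Eq.trans ?_ ((congrArg _ hb).trans (map_zero (Y.presheaf.map
        (homOfLE (fun y hy => hg hy : i ⁻¹ᵁ X.basicOpen g ≤ i ⁻¹ᵁ V)).op).hom))
      exact ConcreteCategory.congr_hom (i.naturality (homOfLE hg).op) b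
    rw [← (hf.basicOpen i hW g).span_eq] at hb'
    rw [← gR_resR hg hxg]
    have := Ideal.mem_map_of_mem (gR hxg) hb'
    rw [Ideal.map_span] at this
    refine Ideal.span_le.2 ?_ this
    rintro _ ⟨_, ⟨j, rfl⟩, rfl⟩
    refine Ideal.subset_span ⟨j, j.2, ?_⟩
    rw [fx_eq]
    exact ((congrArg (gR hxg) (ConormalWedge.fn_res i (X.basicOpen_le g) (f j))).trans
      (gR_resR (X.basicOpen_le g) hxg _)).symm

theorem regular_fx (hW : IsAffineOpen W) (hf : ConormalWedge.IsGens i W f) {x : X} (hx : x ∈ W) :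
    RingTheory.Sequence.IsWeaklyRegular (X.presheaf.stalk x) (List.ofFn fun j : Fin r => fx f hx j) := by
  letI := QCoh.stalkAlg (X := X) hx
  haveI := QCoh.isLocalization_stalk' hW hx
  have h := hf.regular.of_isLocalization (X.presheaf.stalk x) (hW.primeIdealOf ⟨x, hx⟩).asIdeal.primeCompl
  rw [List.map_ofFn] at h
  convert h using 2
  funext j
  exact fx_eq hx j

theorem tmS_zero_left {A B : Y.Modules} {U : Y.Opens} (t : Γ(B, U)) : QCoh.tmS A B (0 : Γ(A, U)) t = 0 := by
  have h := QCoh.tmS_add_left A B (0 : Γ(A, U)) 0 t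
  rw [add_zero] at h
  exact left_eq_add.1 h

namespace Setup

variable {M : Y.Modules} (S : Setup i M) {q : ℕ}

theorem data {x : X} (hW : IsAffineOpen W) (hf : ConormalWedge.IsGens i W f) (hx : x ∈ W) :
    Data (S.dS x) (S.εS x) (fx f hx) r where
  res := S.resol x
  regular j hj p w := by
    haveI := S.flat (-(p : ℤ)) x
    exact smul_mem_of_flat (fx f hx) (regular_fx hW hf hx) hj
  killed n m := by
    refine J_smul_push i M ?_ m
    by_cases h : n < r
    · rw [show fx f hx n = _ from fx_eq hx ⟨n, h⟩]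
      exact gR_mem_J i hx _ (ConormalWedge.fn_mem i _)
    · simp [fx, h]
  bound n hn := by simp [fx, not_lt.2 hn]

theorem th_sub_left {W : X.Opens} (a : Fin q → ConormalWedge.Id i W) (j : Fin q) (k k' : ConormalWedge.Id i W)
    (m : Γ(push i M, W)) :
    S.th (Function.update a j (k - k')) m = S.th (Function.update a j k) m - S.th (Function.update a j k') m := by
  rw [eq_sub_iff_add_eq, ← S.th_update_add, sub_add_cancel]

theorem th_update_congr {W : X.Opens} (hW : IsAffineOpen W) (a : Fin q → ConormalWedge.Id i W) (j : Fin q)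
    {k k' : ConormalWedge.Id i W} (h : ConormalWedge.cn i k = ConormalWedge.cn i k') (m : Γ(push i M, W)) :
    S.th (Function.update a j k) m = S.th (Function.update a j k') m := by
  rw [← sub_eq_zero, ← S.th_sub_left]
  have h0 : ConormalWedge.cn i (k - k') = 0 :=
    ((AddMonoidHom.mk' (ConormalWedge.cn i (W := W)) (ConormalWedge.cn_add i)).map_sub k k').trans (sub_eq_zero.2 h)
  refine Submodule.smul_induction_on ((ConormalWedge.cn_eq_zero i hW _).1 h0) (fun b hb n _ => ?_) fun u v hu hv => ?_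
  · rw [S.th_update_smul, th_killed S b hb]
  · rw [S.th_update_add, hu, hv, add_zero]

theorem th_congr {W : X.Opens} (hW : IsAffineOpen W) (a a' : Fin q → ConormalWedge.Id i W)
    (h : ∀ j, ConormalWedge.cn i (a j) = ConormalWedge.cn i (a' j)) (m : Γ(push i M, W)) : S.th a m = S.th a' m := by
  classical
  have key : ∀ s : Finset (Fin q), S.th (s.piecewise a' a) m = S.th a m := fun s => by
    induction s using Finset.induction with
    | empty => rw [Finset.piecewise_empty]
    | insert j s hj ih =>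
      rw [Finset.piecewise_insert]
      refine Eq.trans ?_ ih
      refine Eq.trans (S.th_update_congr hW _ j (k' := a j) (h j).symm m) ?_
      congr 1
      funext l
      by_cases hl : l = j
      · subst hl; simp [hj]
      · simp [hl]
  have := key Finset.univ
  rw [Finset.piecewise_univ] at this
  exact this.symm

/-- The Tor sections as a module over the functions of the subscheme. -/
def TY {W : X.Opens} (_hW : IsAffineOpen W) (q : ℕ) : Type u := Γ(S.T q, W)

instance {W : X.Opens} (hW : IsAffineOpen W) : AddCommGroup (S.TY hW q) := inferInstanceAs (AddCommGroup Γ(S.T q, W))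

/-- The section. -/
def toTY {W : X.Opens} (hW : IsAffineOpen W) : Γ(S.T q, W) →+ S.TY hW q := AddMonoidHom.id _

/-- Scalars of the subscheme act through lifts. -/
def smulY {W : X.Opens} (hW : IsAffineOpen W) (b : Γ(Y, i ⁻¹ᵁ W)) (t : Γ(S.T q, W)) : Γ(S.T q, W) :=
  (i.app_surjective W hW b).choose • t

theorem smulY_app {W : X.Opens} (hW : IsAffineOpen W) (b : Γ(X, W)) (t : Γ(S.T q, W)) :
    S.smulY hW (i.app W b) t = b • t := by
  rw [← sub_eq_zero, smulY, ← sub_smul]
  refine th_killed S _ ?_ t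
  rw [map_sub, (i.app_surjective W hW (i.app W b)).choose_spec, sub_self]

instance {W : X.Opens} (hW : IsAffineOpen W) : Module Γ(Y, i ⁻¹ᵁ W) (S.TY hW q) where
  smul b t := S.smulY hW b t
  one_smul t := by
    show S.smulY hW 1 t = t
    rw [← map_one (i.app W).hom, S.smulY_app]
    exact one_smul Γ(X, W) _
  mul_smul a b t := by
    obtain ⟨a, rfl⟩ := i.app_surjective W hW a
    obtain ⟨b, rfl⟩ := i.app_surjective W hW b
    show S.smulY hW _ t = S.smulY hW _ (S.smulY hW _ t)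
    rw [← map_mul, S.smulY_app, S.smulY_app, S.smulY_app]
    exact mul_smul a b _
  smul_zero a := by
    show (_ : Γ(X, W)) • (0 : Γ(S.T q, W)) = 0
    exact smul_zero _
  smul_add a s t := by
    show S.smulY hW a _ = S.smulY hW a _ + S.smulY hW a _
    exact smul_add (i.app_surjective W hW a).choose (show Γ(S.T q, W) from s) (show Γ(S.T q, W) from t)
  add_smul a b t := by
    obtain ⟨a, rfl⟩ := i.app_surjective W hW a
    obtain ⟨b, rfl⟩ := i.app_surjective W hW b
    show S.smulY hW _ t = S.smulY hW _ t + S.smulY hW _ t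
    rw [← map_add, S.smulY_app, S.smulY_app, S.smulY_app]
    exact add_smul a b _
  zero_smul t := by
    show S.smulY hW 0 t = 0
    rw [← map_zero (i.app W).hom, S.smulY_app]
    exact zero_smul Γ(X, W) _

theorem TY_smul_app {W : X.Opens} (hW : IsAffineOpen W) (b : Γ(X, W)) (t : Γ(S.T q, W)) :
    i.app W b • S.toTY hW t = S.toTY hW (b • t) := S.smulY_app hW b t

/-- The values on tuples of conormal sections. -/
def thY {W : X.Opens} (hW : IsAffineOpen W) (v : Fin q → Γ(Omega.conormal i, i ⁻¹ᵁ W)) :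
    Γ(M, i ⁻¹ᵁ W) →ₗ[Γ(Y, i ⁻¹ᵁ W)] S.TY hW q where
  toFun m := S.toTY hW (S.th (fun j => Function.surjInv (ConormalWedge.cn_surjective i hW) (v j)) m)
  map_add' m m' := by
    rw [show (m + m' : Γ(M, i ⁻¹ᵁ W)) = ((m : Γ(push i M, W)) + m' : Γ(push i M, W)) from rfl, S.th_add_right, map_add]
  map_smul' b m := by
    obtain ⟨b, rfl⟩ := i.app_surjective W hW b
    rw [RingHom.id_apply, S.TY_smul_app, ← S.th_smul_right]
    rfl

theorem thY_apply {W : X.Opens} (hW : IsAffineOpen W) (a : Fin q → ConormalWedge.Id i W)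
    (v : Fin q → Γ(Omega.conormal i, i ⁻¹ᵁ W)) (h : ∀ j, ConormalWedge.cn i (a j) = v j) (m : Γ(M, i ⁻¹ᵁ W)) :
    S.thY hW v m = S.toTY hW (S.th a m) := by
  refine congrArg (S.toTY hW) (S.th_congr hW _ _ (fun j => ?_) m)
  rw [Function.surjInv_eq (ConormalWedge.cn_surjective i hW), h]

/-- The alternating map on conormal sections. -/
def altY {W : X.Opens} (hW : IsAffineOpen W) :
    Γ(Omega.conormal i, i ⁻¹ᵁ W) [⋀^Fin q]→ₗ[Γ(Y, i ⁻¹ᵁ W)] (Γ(M, i ⁻¹ᵁ W) →ₗ[Γ(Y, i ⁻¹ᵁ W)] S.TY hW q) where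
  toFun := S.thY hW
  map_update_add' := fun {hd} v j x y => by
    obtain rfl : hd = instDecidableEqFin q := Subsingleton.elim _ _
    refine LinearMap.ext fun m => ?_
    obtain ⟨kx, rfl⟩ := ConormalWedge.cn_surjective i hW x
    obtain ⟨ky, rfl⟩ := ConormalWedge.cn_surjective i hW y
    let a := fun l => Function.surjInv (ConormalWedge.cn_surjective i hW) (v l)
    have key : ∀ k : ConormalWedge.Id i W, S.thY hW (Function.update v j (ConormalWedge.cn i k)) m =
        S.toTY hW (S.th (Function.update a j k) m) := fun k => S.thY_apply hW _ _ (fun l => by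
      by_cases h : l = j
      · subst h; simp
      · simp [h, a, Function.surjInv_eq (ConormalWedge.cn_surjective i hW)]) m
    rw [LinearMap.add_apply, ← ConormalWedge.cn_add, key, key, key]
    exact (congrArg (S.toTY hW) (S.th_update_add a j kx ky m)).trans (map_add _ _ _)
  map_update_smul' := fun {hd} v j b x => by
    obtain rfl : hd = instDecidableEqFin q := Subsingleton.elim _ _
    refine LinearMap.ext fun m => ?_
    obtain ⟨kx, rfl⟩ := ConormalWedge.cn_surjective i hW x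
    obtain ⟨b, rfl⟩ := i.app_surjective W hW b
    let a := fun l => Function.surjInv (ConormalWedge.cn_surjective i hW) (v l)
    have key : ∀ k : ConormalWedge.Id i W, S.thY hW (Function.update v j (ConormalWedge.cn i k)) m =
        S.toTY hW (S.th (Function.update a j k) m) := fun k => S.thY_apply hW _ _ (fun l => by
      by_cases h : l = j
      · subst h; simp
      · simp [h, a, Function.surjInv_eq (ConormalWedge.cn_surjective i hW)]) m
    rw [LinearMap.smul_apply, ← ConormalWedge.cn_smul, key, key]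
    exact (congrArg (S.toTY hW) (S.th_update_smul a j b kx m)).trans (S.TY_smul_app hW b _).symm
  map_eq_zero_of_eq' := fun v j j' h hne => by
    refine LinearMap.ext fun m => ?_
    rw [S.thY_apply hW (fun l => Function.surjInv (ConormalWedge.cn_surjective i hW) (v l)) v
      (fun l => Function.surjInv_eq _ _) m, S.th_eq_zero _ hne (by rw [h]), map_zero, LinearMap.zero_apply]

variable {L : Y.Modules} (φ : ∀ U : Y.affineOpens, (L.val.obj (op U.1)) ≃ₗ[Γ(Y, U.1)]
    ↥(⋀[Γ(Y, U.1)]^q ((Omega.conormal i).val.obj (op U.1))))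
  (hφ : ∀ (U V : Y.affineOpens) (h : V.1 ≤ U.1) (e : Fin q → (Omega.conormal i).val.obj (op U.1)),
    L.val.map (homOfLE h).op ((φ U).symm (exteriorPower.ιMulti _ q e)) =
      (φ V).symm (exteriorPower.ιMulti _ q (fun j => (Omega.conormal i).val.map (homOfLE h).op (e j))))
  (hM : Coh.IsQCoh M) (hLq : Coh.IsQCoh L)

/-- The source of the comparison. -/
abbrev src (M L : Y.Modules) : Y.Modules := (DCoh.tensorBi.obj M).obj L

/-- The comparison on sections. -/
def gW {W : X.Opens} (hW : IsAffineOpen W) : Γ(src M L, i ⁻¹ᵁ W) →ₗ[Γ(Y, i ⁻¹ᵁ W)] S.TY hW q :=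
  (TensorProduct.lift
    ((exteriorPower.alternatingMapLinearEquiv (S.altY hW)).comp (φ ⟨i ⁻¹ᵁ W, hW.preimage i⟩).toLinearMap).flip).comp
    (LinearEquiv.ofBijective (QCoh.tmLin M L (i ⁻¹ᵁ W))
      (QCoh.bijective_tmLin hM hLq (hW.preimage i))).symm.toLinearMap

theorem gW_tmS {W : X.Opens} (hW : IsAffineOpen W) (a : Fin q → ConormalWedge.Id i W) (m : Γ(M, i ⁻¹ᵁ W)) :
    S.gW φ hM hLq hW (QCoh.tmS M L m (ConormalWedge.wedge i φ hW a)) = S.toTY hW (S.th a m) := by
  have h : (LinearEquiv.ofBijective (QCoh.tmLin M L (i ⁻¹ᵁ W)) (QCoh.bijective_tmLin hM hLq (hW.preimage i))).symm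
      (QCoh.tmS M L m (ConormalWedge.wedge i φ hW a)) = m ⊗ₜ ConormalWedge.wedge i φ hW a :=
    (LinearEquiv.symm_apply_eq _).2 rfl
  show TensorProduct.lift ((exteriorPower.alternatingMapLinearEquiv (S.altY hW)).comp
      (φ ⟨i ⁻¹ᵁ W, hW.preimage i⟩).toLinearMap).flip
    ((LinearEquiv.ofBijective (QCoh.tmLin M L (i ⁻¹ᵁ W)) (QCoh.bijective_tmLin hM hLq (hW.preimage i))).symm
      (QCoh.tmS M L m (ConormalWedge.wedge i φ hW a))) = _
  rw [h, TensorProduct.lift.tmul]
  show exteriorPower.alternatingMapLinearEquiv (S.altY hW)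
    ((φ ⟨i ⁻¹ᵁ W, hW.preimage i⟩) (ConormalWedge.wedge i φ hW a)) m = _
  rw [ConormalWedge.wedge]
  erw [LinearEquiv.apply_symm_apply, exteriorPower.alternatingMapLinearEquiv_apply_ιMulti]
  exact S.thY_apply hW a _ (fun _ => rfl) m

/-- The comparison on sections, with values in sections. -/
def gX {W : X.Opens} (hW : IsAffineOpen W) (u : Γ(src M L, i ⁻¹ᵁ W)) : Γ(S.T q, W) := S.gW φ hM hLq hW u

theorem gX_tmS {W : X.Opens} (hW : IsAffineOpen W) (a : Fin q → ConormalWedge.Id i W) (m : Γ(M, i ⁻¹ᵁ W)) :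
    S.gX φ hM hLq hW (QCoh.tmS M L m (ConormalWedge.wedge i φ hW a)) = S.th a m := S.gW_tmS φ hM hLq hW a m

theorem gX_zero {W : X.Opens} (hW : IsAffineOpen W) : S.gX φ hM hLq hW 0 = 0 := map_zero (S.gW φ hM hLq hW)

theorem gX_add {W : X.Opens} (hW : IsAffineOpen W) (u v : Γ(src M L, i ⁻¹ᵁ W)) :
    S.gX φ hM hLq hW (u + v) = S.gX φ hM hLq hW u + S.gX φ hM hLq hW v := map_add (S.gW φ hM hLq hW) u v

theorem gX_sum {W : X.Opens} (hW : IsAffineOpen W) {σ : Type*} (s : Finset σ) (u : σ → Γ(src M L, i ⁻¹ᵁ W)) :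
    S.gX φ hM hLq hW (∑ j ∈ s, u j) = ∑ j ∈ s, S.gX φ hM hLq hW (u j) :=
  map_sum (AddMonoidHom.mk' (S.gX φ hM hLq hW) (S.gX_add φ hM hLq hW)) u s

theorem gX_smul {W : X.Opens} (hW : IsAffineOpen W) (b : Γ(X, W)) (u : Γ(src M L, i ⁻¹ᵁ W)) :
    S.gX φ hM hLq hW (i.app W b • u) = b • S.gX φ hM hLq hW u :=
  (map_smul (S.gW φ hM hLq hW) (i.app W b) u).trans (S.TY_smul_app hW b _)

include hM hLq in
/-- Sections of the source are sums of elementary ones. -/
theorem induction_sections {W : X.Opens} (hW : IsAffineOpen W) {P : Γ(src M L, i ⁻¹ᵁ W) → Prop}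
    (h0 : P 0) (hadd : ∀ x y, P x → P y → P (x + y))
    (ht : ∀ m a, P (QCoh.tmS M L m (ConormalWedge.wedge i φ hW a))) (u : Γ(src M L, i ⁻¹ᵁ W)) : P u := by
  obtain ⟨z, rfl⟩ := (QCoh.bijective_tmLin hM hLq (hW.preimage i)).2 u
  induction z using TensorProduct.induction_on with
  | zero => rw [map_zero]; exact h0
  | add x y hx hy => rw [map_add]; exact hadd _ _ hx hy
  | tmul m l =>
    rw [QCoh.tmLin_tmul]
    obtain ⟨e, rfl⟩ := (φ ⟨i ⁻¹ᵁ W, hW.preimage i⟩).symm.surjective l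
    have he : e ∈ Submodule.span Γ(Y, i ⁻¹ᵁ W) (Set.range (exteriorPower.ιMulti Γ(Y, i ⁻¹ᵁ W) q
        (M := (Omega.conormal i).val.obj (op (i ⁻¹ᵁ W))))) := by
      rw [exteriorPower.ιMulti_span]; trivial
    induction he using Submodule.span_induction generalizing m with
    | mem e he =>
      obtain ⟨v, rfl⟩ := he
      choose a ha using fun j => ConormalWedge.cn_surjective i hW (v j)
      rw [show v = fun j => ConormalWedge.cn i (a j) from funext fun j => (ha j).symm]
      exact ht m a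
    | zero =>
      rw [map_zero]
      exact (congrArg P ((QCoh.tmLin_tmul M L m (0 : Γ(L, i ⁻¹ᵁ W))).symm.trans (by rw [TensorProduct.tmul_zero, map_zero]))).mpr h0
    | add e e' _ _ he he' =>
      rw [map_add]
      exact (congrArg P (QCoh.tmS_add_right M L m _ _)).mpr (hadd _ _ (he m) (he' m))
    | smul b e _ he =>
      rw [map_smul]
      exact (congrArg P ((QCoh.tmS_smul_right M L b m _).trans (QCoh.tmS_smul_left M L b m _).symm)).mpr (he (b • m))

include hφ in
theorem gW_res {W V : X.Opens} (hW : IsAffineOpen W) (hV : IsAffineOpen V) (h : V ≤ W) (h' : i ⁻¹ᵁ V ≤ i ⁻¹ᵁ W)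
    (u : Γ(src M L, i ⁻¹ᵁ W)) :
    AModX.res (S.T q) h (S.gX φ hM hLq hW u) = S.gX φ hM hLq hV (AModX.res (src M L) h' u) := by
  induction u using induction_sections (φ := φ) (hM := hM) (hLq := hLq) (hW := hW) with
  | h0 => rw [map_zero, gX_zero, gX_zero, map_zero]
  | hadd x y hx hy => rw [gX_add, map_add, map_add, gX_add, hx, hy]
  | ht m a =>
    rw [show AModX.res (src M L) h' (QCoh.tmS M L m (ConormalWedge.wedge i φ hW a)) =
      QCoh.tmS M L (AModX.res M h' m) (AModX.res L h' (ConormalWedge.wedge i φ hW a)) from QCoh.map_tmS M L (homOfLE h') _ _,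
      ConormalWedge.wedge_res i φ hφ hW hV h h', S.gX_tmS, S.gX_tmS]
    exact S.th_res h a m

variable (hi : RegImm.IsRegularImmersion RegImm.Kind.regular i)

include hφ hi hM hLq in
/-- The comparison map. -/
theorem exists_comparison : ∃ Φ : push i (src M L) ⟶ S.T q, ∀ W (hW : IsAffineOpen W), W ∈ goods i →
    ∀ u : Γ(src M L, i ⁻¹ᵁ W), Φ.app W u = S.gX φ hM hLq hW u := by
  obtain ⟨Φ, hΦ⟩ := BasisHom.exists_hom (M := push i (src M L)) (N := S.T q) (isBasis_goods hi)
    (fun W hW u => S.gX φ hM hLq hW.1 u)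
    (fun W hW V hV h u => S.gW_res φ hφ hM hLq hW.1 hV.1 h (fun y hy => h hy) u)
    (fun W hW u v => S.gX_add φ hM hLq hW.1 u v)
    (fun W hW b u => (congrArg (S.gX φ hM hLq hW.1) (QCoh.pushforward_smul i W b u)).trans
      (S.gX_smul φ hM hLq hW.1 b u))
  exact ⟨Φ, fun W hW hg u => hΦ W hg u⟩

include hφ hi hM hLq in
/-- The comparison is an isomorphism. -/
theorem nonempty_iso_T : Nonempty (S.T q ≅ push i (src M L)) := by
  classical
  obtain ⟨Φ, hΦ⟩ := exists_comparison S φ hφ hM hLq hi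
  suffices IsIso Φ from ⟨(asIso Φ).symm⟩
  refine isIso_of_bijective Φ fun x => ?_
  obtain ⟨W₀, ⟨hW₀, hcase⟩, hxW₀, -⟩ := Opens.isBasis_iff_nbhd.1 (isBasis_goods hi) (show x ∈ (⊤ : X.Opens) from trivial)
  rcases hcase with hbot | ⟨r, f₀, hf₀⟩
  · have h1 := one_mem_J hxW₀ hbot
    refine ⟨fun a b _ => ?_, fun τ => ⟨0, ?_⟩⟩
    · rw [← one_smul (X.presheaf.stalk x) a, ← one_smul (X.presheaf.stalk x) b, J_smul_push i _ h1, J_smul_push i _ h1]
    · rw [map_zero, ← IsCls.smul_eq_zero h1 τ, one_smul]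
  have key : ∀ (V : X.Opens), x ∈ V → ∃ (W : X.Opens) (hW : IsAffineOpen W), x ∈ W ∧ W ≤ V ∧ W ∈ goods i ∧
      ∃ f : Fin r → ConormalWedge.Id i W, ConormalWedge.IsGens i W f := fun V hxV => by
    obtain ⟨g, hg, hxg⟩ := hW₀.exists_basicOpen_le ⟨x, hxV⟩ hxW₀
    exact ⟨_, hW₀.basicOpen g, hxg, hg, ⟨hW₀.basicOpen g, Or.inr ⟨r, _, hf₀.basicOpen i hW₀ g⟩⟩, _,
      hf₀.basicOpen i hW₀ g⟩
  have image : ∀ (W : X.Opens) (hW : IsAffineOpen W) (hxW : x ∈ W) (f : Fin r → ConormalWedge.Id i W),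
      W ∈ goods i → ∀ μ : Idx r q → Γ(M, i ⁻¹ᵁ W), ∃ Z : Idx r q → S.N x q,
        (∀ J', Rep (S.dS x) (S.εS x) (fx f hxW ∘ J'.1) (gm (push i M) hxW (μ J')) (Z J')) ∧
        S.IsCls (∑ J', Z J') (stL Φ x (gm (push i (src M L)) hxW (∑ J', QCoh.tmS M L (μ J')
          (ConormalWedge.wedge i φ hW fun j => f ⟨J'.1 j, J'.2.2 j⟩)))) := fun W hW hxW f hg μ => by
    choose Z hZ hZc using fun J' : Idx r q =>
      (S.isTh_th (fun j => f ⟨J'.1 j, J'.2.2 j⟩) (μ J')).exists_germ x hxW
    refine ⟨Z, fun J' => by rw [fx_comp]; exact hZ J', ?_⟩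
    have e : stL Φ x (gm (push i (src M L)) hxW (∑ J', QCoh.tmS M L (μ J')
          (ConormalWedge.wedge i φ hW fun j => f ⟨J'.1 j, J'.2.2 j⟩))) =
        ∑ J', gm (S.T q) hxW (S.th (fun j => f ⟨J'.1 j, J'.2.2 j⟩) (μ J')) := by
      rw [stL_gm, hΦ W hW hg, gX_sum, map_sum]
      exact Finset.sum_congr rfl fun J' _ => congrArg (gm (S.T q) hxW) (S.gX_tmS φ hM hLq hW _ _)
    rw [e]
    exact IsCls.sum _ hZc
  refine ⟨(injective_iff_map_eq_zero _).2 fun a ha => ?_, fun τ => ?_⟩
  · obtain ⟨V, -, hxV, u₀, rfl⟩ := exists_gm a (show x ∈ (⊤ : X.Opens) from trivial)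
    obtain ⟨W, hW, hxW, hWV, hgood, f, hf⟩ := key V hxV
    rw [← gm_res hWV hxW] at ha ⊢
    generalize AModX.res (push i (src M L)) hWV u₀ = u at ha ⊢
    have hspan : Submodule.span Γ(Y, i ⁻¹ᵁ W)
        (Set.range fun J' : Idx r q => ConormalWedge.wedge i φ hW fun j => f ⟨J'.1 j, J'.2.2 j⟩) = ⊤ := by
      let g : ℕ → Γ(Omega.conormal i, i ⁻¹ᵁ W) := fun n => if h : n < r then ConormalWedge.cn i (f ⟨n, h⟩) else 0
      have hg : Submodule.span Γ(Y, i ⁻¹ᵁ W) (Set.range fun j : Fin r => g j) = ⊤ := by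
        refine eq_top_iff.2 fun c _ => ?_
        obtain ⟨k, rfl⟩ := ConormalWedge.cn_surjective i hW c
        obtain ⟨A, hA⟩ := ConormalWedge.exists_coord i hf k
        have hk : k = ∑ j, A j • f j := ConormalWedge.fn_injective i <| by
          rw [hA, ConormalWedge.fn_sum]
          exact Finset.sum_congr rfl fun j _ => (ConormalWedge.fn_smul i _ _).symm
        rw [hk, ConormalWedge.cn_sum]
        refine Submodule.sum_mem _ fun j _ => ?_
        rw [ConormalWedge.cn_smul]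
        exact Submodule.smul_mem _ _ (Submodule.subset_span ⟨j, by simp [g]⟩)
      have h1 := congrArg (Submodule.map (φ ⟨i ⁻¹ᵁ W, hW.preimage i⟩).symm.toLinearMap) (span_wedge g hg q)
      rw [Submodule.map_span, Submodule.map_top, LinearEquiv.range, ← Set.range_comp] at h1
      rw [← h1]
      refine congrArg _ (congrArg Set.range (funext fun J' => ?_))
      refine congrArg (fun e => (φ ⟨i ⁻¹ᵁ W, hW.preimage i⟩).symm (exteriorPower.ιMulti _ q e)) (funext fun j => ?_)
      simp [g, J'.2.2 j]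
    obtain ⟨z, rfl⟩ := (QCoh.bijective_tmLin hM hLq (hW.preimage i)).2 u
    obtain ⟨μ, rfl⟩ := exists_eq_sum_tmul _ hspan z
    rw [map_sum] at ha ⊢
    obtain ⟨Z, hZ, hc⟩ := image W hW hxW f hgood μ
    simp only [QCoh.tmLin_tmul] at ha ⊢
    rw [show stL Φ x _ = 0 from ha] at hc
    have hμ := (S.data hW hf hxW).rep_inj _ Z hZ (by rw [idl_fx hW hf hxW]; exact hc.mem_of_eq_zero)
    refine (map_sum (gm (push i (src M L)) hxW) (fun J' => (show Γ(push i (src M L), W) from _)) _).trans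
      (Finset.sum_eq_zero fun J' _ => ?_)
    obtain ⟨V', h', hxV', e⟩ := exists_res_eq hxW ((congrFun hμ J').trans (map_zero _).symm)
    rw [map_zero] at e
    rw [← gm_res h' hxV']
    refine (congrArg (gm (push i (src M L)) hxV') ?_).trans (map_zero _)
    have h'' : i ⁻¹ᵁ V' ≤ i ⁻¹ᵁ W := fun y hy => h' hy
    refine (QCoh.map_tmS M L (homOfLE h'') _ _).trans ?_
    refine (congrArg (fun s => QCoh.tmS M L s _) (show M.presheaf.map (homOfLE h'').op (μ J') = 0 from e)).trans ?_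
    exact tmS_zero_left _
  · obtain ⟨z, hz, hτ⟩ := exists_cls_eq τ
    obtain ⟨μ, hμ⟩ := (S.data hW₀ hf₀ hxW₀).rep_surj z (by rw [idl_fx hW₀ hf₀ hxW₀]; exact hz)
    obtain ⟨V, hVW, hxV, s, hs⟩ := exists_common (fun _ : Idx r q => push i M) μ hxW₀
    obtain ⟨g, hg, hxg⟩ := hW₀.exists_basicOpen_le ⟨x, hxV⟩ hxW₀
    let f := fun j => AModX.res (ClSub.idealMod i.ker) (X.basicOpen_le g) (f₀ j)
    obtain ⟨Z, hZ, hc⟩ := image _ (hW₀.basicOpen g) hxg f ⟨hW₀.basicOpen g, Or.inr ⟨r, _, hf₀.basicOpen i hW₀ g⟩⟩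
      (fun J' => AModX.res (push i M) hg (s J'))
    refine ⟨_, hc.eq_of_sub_mem hτ ?_⟩
    have hfx : fx f hxg = fx f₀ hxW₀ := funext fun n => by
      by_cases h : n < r
      · simp only [fx, dif_pos h, f, ConormalWedge.fn_res, gR_resR]
      · simp [fx, h]
    have := hμ Z fun J' => by
      have h2 := hZ J'
      rw [hfx, gm_res] at h2
      rw [← hs J']
      exact h2
    rw [idl_fx hW₀ hf₀ hxW₀] at this
    simpa using neg_mem this

end Setup

/-- The Tor sheaves of a regular immersion. -/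
theorem Setup.nonempty_iso {M : Y.Modules} (S : Setup i M) (hi : RegImm.IsRegularImmersion RegImm.Kind.regular i)
    (hM : Coh.IsQCoh M) {q : ℕ} {L : Y.Modules} (hL : ExtPow.IsExtPow q (Omega.conormal i) L) :
    Nonempty (S.T q ≅ (Scheme.Modules.pushforward i).obj ((DCoh.tensorBi.obj M).obj L)) :=
  have hLq := Synt29.ExtPowPull.isQCoh_of_isExtPow (QCoh.isQCoh_pullback i (ConormalWedge.isQCoh_idealMod i)) hL
  let ⟨φ, hφ⟩ := hL
  S.nonempty_iso_T φ hφ hM hLq hi

end Groth.Agent.H28.SelfInt
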