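import Groth.Agent.H28.SelfInt.Iso
import Groth.Agent.KFlatLib.Scheme.TorQCoh
import Groth.Agent.KFlatLib.Bounded
import Groth.Agent.Lib.HomPushSections

/-!
# Resolutions of direct images along a regular immersion
-/

set_option autoImplicit false
set_option linter.style.haveILetI false
set_option linter.unusedSectionVars false
set_option backward.isDefEq.respectTransparency false
set_option backward.isDefEq.respectTransparency.types false
set_option maxHeartbeats 1000000

universe u

open CategoryTheory CategoryTheory.Limits AlgebraicGeometry TopologicalSpace Opposite MonoidalCategory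
attribute [local instance] HasDerivedCategory.standard
open Groth.Agent.AModX

noncomputable section

namespace Groth.Agent.H28.SelfInt

section Algebra

variable {R : Type u} [CommRing R] {V V' : Type*} [AddCommGroup V] [Module R V] [AddCommGroup V'] [Module R V']

theorem map_smul_top_le (g : V →ₗ[R] V') (I : Ideal R) {v : V} (hv : v ∈ I • (⊤ : Submodule R V)) :
    g v ∈ I • (⊤ : Submodule R V') := by
  refine Submodule.smul_induction_on hv (fun t ht n _ => ?_) fun a b ha hb => ?_
  · rw [map_smul]; exact Submodule.smul_mem_smul ht Submodule.mem_top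
  · rw [map_add]; exact add_mem ha hb

theorem eq_zero_of_mem_smul_top (g : V →ₗ[R] V') (I : Ideal R) (h : ∀ t ∈ I, ∀ w : V', t • w = 0) {v : V}
    (hv : v ∈ I • (⊤ : Submodule R V)) : g v = 0 := by
  refine Submodule.smul_induction_on hv (fun t ht n _ => ?_) fun a b ha hb => ?_
  · rw [map_smul, h t ht]
  · rw [map_add, ha, hb, add_zero]

open scoped TensorProduct in
/-- Tensoring a surjection whose kernel is `I` times the source. -/
theorem lTensor_ker {Q : Type*} [AddCommGroup Q] [Module R Q] (g : V →ₗ[R] V') (hg : Function.Surjective g)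
    (I : Ideal R) (hk : ∀ v, g v = 0 → v ∈ I • (⊤ : Submodule R V)) (hI : ∀ t ∈ I, ∀ w : V', t • w = 0) :
    Function.Surjective (g.lTensor Q) ∧
      ∀ z, g.lTensor Q z = 0 ↔ z ∈ I • (⊤ : Submodule R (Q ⊗[R] V)) := by
  refine ⟨LinearMap.lTensor_surjective Q hg, fun z => ⟨fun hz => ?_, fun hz => ?_⟩⟩
  · have hex : Function.Exact (LinearMap.ker g).subtype g := LinearMap.exact_subtype_ker_map g
    obtain ⟨y, rfl⟩ := ((lTensor_exact Q hex hg) z).1 hz
    induction y using TensorProduct.induction_on with
    | zero => rw [map_zero]; exact zero_mem _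
    | add a b ha hb =>
      rw [map_add]
      exact add_mem (ha (((lTensor_exact Q hex hg) _).2 ⟨a, rfl⟩)) (hb (((lTensor_exact Q hex hg) _).2 ⟨b, rfl⟩))
    | tmul n k =>
      rw [LinearMap.lTensor_tmul]
      exact map_smul_top_le (TensorProduct.mk R Q V n) I (hk k.1 k.2)
  · refine eq_zero_of_mem_smul_top (g.lTensor Q) I (fun t ht w => ?_) hz
    induction w using TensorProduct.induction_on with
    | zero => exact smul_zero _
    | add a b ha hb => rw [smul_add, ha, hb, add_zero]
    | tmul n k => rw [← TensorProduct.tmul_smul, hI t ht, TensorProduct.tmul_zero]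

end Algebra

variable {X Y : Scheme.{u}} (i : Y ⟶ X) [IsClosedImmersion i]

theorem stL_unit_surjective (x : X) : Function.Surjective (stL (ClSub.unitToPush i) x) :=
  haveI := HomPushSections.epi_unitToPush i
  stL_surjective _ x

theorem stL_unit_ker (x : X) (v : st (Coh.structureModule X) x) (hv : stL (ClSub.unitToPush i) x v = 0) :
    v ∈ J i x • (⊤ : Submodule (X.presheaf.stalk x) (st (Coh.structureModule X) x)) := by
  obtain ⟨V, -, hV, s, rfl⟩ := exists_gm v (show x ∈ (⊤ : X.Opens) from trivial)
  let b : Γ(X, V) := s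
  have he : gm (Coh.structureModule X) hV s =
      gR hV b • gm (Coh.structureModule X) hV (show Γ(Coh.structureModule X, V) from (1 : Γ(X, V))) := by
    rw [← gm_smul]
    exact congrArg _ (mul_one b).symm
  rw [he]
  refine Submodule.smul_mem_smul ?_ Submodule.mem_top
  show gR hV b • oneP i x = 0
  rw [gR_smul_one]
  rw [stL_gm] at hv
  exact hv

theorem tensor_unit (Q : X.Modules) (x : X) :
    Function.Surjective (stL ((DCoh.tensorBi.obj Q).map (ClSub.unitToPush i)) x) ∧
      ∀ z, stL ((DCoh.tensorBi.obj Q).map (ClSub.unitToPush i)) x z = 0 ↔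
        z ∈ J i x • (⊤ : Submodule (X.presheaf.stalk x) (st ((DCoh.tensorBi.obj Q).obj (Coh.structureModule X)) x)) := by
  let e := KFlatLib.stalkTensorIso x Q (Coh.structureModule X)
  let e' := KFlatLib.stalkTensorIso x Q (push i (Coh.structureModule Y))
  obtain ⟨hs, hk⟩ := lTensor_ker (Q := st Q x) (stL (ClSub.unitToPush i) x) (stL_unit_surjective i x) (J i x)
    (stL_unit_ker i x) (fun t ht w => J_smul_push i _ ht w)
  have hnat : ∀ z, stL ((DCoh.tensorBi.obj Q).map (ClSub.unitToPush i)) x (e.hom z) =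
      e'.hom ((stL (ClSub.unitToPush i) x).lTensor (st Q x) z) := fun z => by
    have h := KFlatLib.stalkTensorIso_naturality (x := x) (𝟙 Q) (ClSub.unitToPush i)
    rw [CategoryTheory.Functor.map_id, id_tensorHom, CategoryTheory.Functor.map_id, NatTrans.id_app,
      Category.id_comp] at h
    exact (congr(($h).hom z)).symm
  refine ⟨fun w => ?_, fun z => ?_⟩
  · obtain ⟨z, hz⟩ := hs (e'.inv w)
    exact ⟨e.hom z, by rw [hnat, hz, Iso.inv_hom_id_apply]⟩
  · obtain ⟨z, rfl⟩ : ∃ z₀, e.hom z₀ = z := ⟨e.inv z, Iso.inv_hom_id_apply e z⟩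
    rw [hnat]
    refine ⟨fun h => map_smul_top_le e.hom.hom _ ((hk z).1 ?_), fun h => ?_⟩
    · have := congrArg e'.inv.hom h
      rw [map_zero] at this
      exact (Iso.hom_inv_id_apply e' _).symm.trans this
    · have h' := map_smul_top_le e.inv.hom _ h
      rw [Iso.hom_inv_id_apply e z] at h'
      rw [(hk z).2 h', map_zero]

/-- Tensoring with the unit of the closed subscheme. -/
def tensorUnit : DCoh.tensorRightMod (Coh.structureModule X) ⟶ DCoh.tensorRightMod (push i (Coh.structureModule Y)) :=
  Functor.whiskerLeft DCoh.toP (Functor.whiskerRight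
    ((tensoringRight (CohB1.PMod X)).map
      (show CohB1.toPMod (Coh.structureModule X) ⟶ CohB1.toPMod (push i (Coh.structureModule Y)) from
        DCoh.toP.map (ClSub.unitToPush i))) DCoh.shP)

theorem tensorUnit_app (Q : X.Modules) :
    (tensorUnit i).app Q = (DCoh.tensorBi.obj Q).map (ClSub.unitToPush i) := rfl

/-- The unit of the closed subscheme tensored with a module. -/
def toTensor : 𝟭 X.Modules ⟶ DCoh.tensorRightMod (push i (Coh.structureModule Y)) :=
  (KFlatLib.tensorStructureIso X).inv ≫ tensorUnit i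

theorem toTensor_props (Q : X.Modules) (x : X) :
    Function.Surjective (stL ((toTensor i).app Q) x) ∧
      ∀ z, stL ((toTensor i).app Q) x z = 0 ↔ z ∈ J i x • (⊤ : Submodule (X.presheaf.stalk x) (st Q x)) := by
  obtain ⟨hs, hk⟩ := tensor_unit i Q x
  let e : st Q x ≅ st ((DCoh.tensorBi.obj Q).obj (Coh.structureModule X)) x :=
    (DerSch.stalkFunctor X x).mapIso ((KFlatLib.tensorStructureIso X).app Q).symm
  have hc : ∀ z, stL ((toTensor i).app Q) x z = stL ((DCoh.tensorBi.obj Q).map (ClSub.unitToPush i)) x (e.hom z) :=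
    fun z => (stL_comp ((KFlatLib.tensorStructureIso X).inv.app Q) ((tensorUnit i).app Q) x z).trans (by rw [tensorUnit_app]; rfl)
  refine ⟨fun w => ?_, fun z => ?_⟩
  · obtain ⟨z, hz⟩ := hs w
    exact ⟨e.inv z, by rw [hc, Iso.inv_hom_id_apply, hz]⟩
  · rw [hc, hk]
    refine ⟨fun h => ?_, fun h => map_smul_top_le e.hom.hom _ h⟩
    have h' := map_smul_top_le e.inv.hom _ h
    rwa [Iso.hom_inv_id_apply e z] at h'

variable {M : Y.Modules}

/-- The data attached to a resolution. -/
def Setup.make (P : CochainComplex X.Modules ℤ)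
    (ψ : P ⟶ (HomologicalComplex.single X.Modules (ComplexShape.up ℤ) 0).obj (push i M)) [QuasiIso ψ]
    (hflat : ∀ n, FlatMod.IsFlat (P.X n)) (hP : ∀ n, 0 < n → IsZero (P.X n)) : Setup i M where
  P := P
  ε := ψ.f 0 ≫ (HomologicalComplex.singleObjXSelf (ComplexShape.up ℤ) 0 (push i M)).hom
  C := ((DCoh.tensorRightMod (push i (Coh.structureModule Y))).mapHomologicalComplex (ComplexShape.up ℤ)).obj P
  η := { f := fun n => (toTensor i).app (P.X n), comm' := fun a b _ => ((toTensor i).naturality (P.d a b)).symm }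
  flat n x := hflat n x
  top := hP 1 one_pos
  resol x := by
    let e := HomologicalComplex.singleObjXSelf (ComplexShape.up ℤ) 0 (push i M)
    let ε : P.X 0 ⟶ push i M := ψ.f 0 ≫ e.hom
    have hdε : ∀ a, P.d a 0 ≫ ε = 0 := fun a => by
      rw [← Category.assoc, ← ψ.comm, HomologicalComplex.single_obj_d, comp_zero, zero_comp]
    have h0 : (ShortComplex.mk (P.d (-1) 0) ε (hdε _)).Exact ∧ Epi ε := by
      have h := (quasiIsoAt_iff' ψ (-1) 0 1 (by simp) (by simp)).1 inferInstance
      rw [ShortComplex.quasiIso_iff_of_zeros'] at h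
      rotate_left
      · exact (hP 1 one_pos).eq_of_tgt _ _
      · exact HomologicalComplex.single_obj_d (ComplexShape.up ℤ) _ _ _ _
      · exact HomologicalComplex.single_obj_d (ComplexShape.up ℤ) _ _ _ _
      obtain ⟨he, hep⟩ := h
      haveI : Epi (ψ.f 0) := hep
      refine ⟨(ShortComplex.exact_iff_of_iso ?_).1 he, epi_comp _ _⟩
      exact ShortComplex.isoMk (Iso.refl _) (Iso.refl _) e (by simp) (by simp [ε])
    have hex : ∀ n : ℤ, n < 0 → (P.sc' (n - 1) n (n + 1)).Exact := fun n hn => by
      rw [← HomologicalComplex.exactAt_iff' P (n - 1) n (n + 1) (by simp) (by simp),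
        HomologicalComplex.exactAt_iff_isZero_homology]
      refine IsZero.of_iso ?_ (isoOfQuasiIsoAt ψ n)
      rw [← HomologicalComplex.exactAt_iff_isZero_homology]
      exact HomologicalComplex.exactAt_single_obj _ _ _ _ (ne_of_lt hn)
    haveI := h0.2
    refine ⟨stL_surjective ε x, fun w => stL_comp_eq_zero _ _ (hdε _) x w, fun p w =>
      stL_comp_eq_zero _ _ (P.d_comp_d _ _ _) x w, fun z hz => ?_, fun p z hz => ?_⟩
    · exact exists_of_exact h0.1 z hz
    · have key : ∀ a b c : ℤ, a = b - 1 → c = b + 1 → b < 0 → ∀ z : st (P.X b) x, stL (P.d b c) x z = 0 →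
          ∃ w, stL (P.d a b) x w = z := by
        rintro a b c rfl rfl hb z hz
        exact exists_of_exact (hex b hb) z hz
      exact key (-((p + 1 + 1 : ℕ) : ℤ)) (-((p + 1 : ℕ) : ℤ)) (-(p : ℤ)) (by push_cast; ring) (by push_cast; ring)
        (by omega) z hz
  eta_surj n x := (toTensor_props i (P.X n) x).1
  eta_ker n x := (toTensor_props i (P.X n) x).2

/-- The Tor sheaves of a direct image with the structure sheaf, computed by any flat resolution. -/
theorem nonempty_homology_iso (hi : RegImm.IsRegularImmersion RegImm.Kind.regular i) (hM : Coh.IsQCoh M)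
    (P : CochainComplex X.Modules ℤ)
    (ψ : P ⟶ (HomologicalComplex.single X.Modules (ComplexShape.up ℤ) 0).obj (push i M)) [QuasiIso ψ]
    (hflat : ∀ n, FlatMod.IsFlat (P.X n)) (hP : ∀ n, 0 < n → IsZero (P.X n))
    {q : ℕ} {L : Y.Modules} (hL : ExtPow.IsExtPow q (Omega.conormal i) L) :
    Nonempty ((((DCoh.tensorRightMod (push i (Coh.structureModule Y))).mapHomologicalComplex (ComplexShape.up ℤ)).obj
        P).homology (-(q : ℤ)) ≅ (Scheme.Modules.pushforward i).obj ((DCoh.tensorBi.obj M).obj L)) :=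
  (Setup.make i P ψ hflat hP).nonempty_iso hi hM hL

/-- Direct images have bounded above flat resolutions. -/
theorem exists_resolution (N : X.Modules) :
    ∃ (P : CochainComplex X.Modules ℤ)
      (ψ : P ⟶ (HomologicalComplex.single X.Modules (ComplexShape.up ℤ) 0).obj N),
      QuasiIso ψ ∧ (∀ n, FlatMod.IsFlat (P.X n)) ∧ (∀ n, 0 < n → IsZero (P.X n)) ∧ DCoh.IsKFlat P := by
  obtain ⟨P, ψ, hψ, hf, hz⟩ := (KFlatLib.flatCover X).exists_bounded_resolution
    ((HomologicalComplex.single X.Modules (ComplexShape.up ℤ) 0).obj N) 0 fun m hm => by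
      rw [← HomologicalComplex.exactAt_iff_isZero_homology]
      exact HomologicalComplex.exactAt_single_obj _ _ _ _ (ne_of_gt hm)
  haveI : CochainComplex.IsStrictlyLE P 0 := (CochainComplex.isStrictlyLE_iff P 0).2 hz
  exact ⟨P, ψ, hψ, hf, hz, KFlatLib.isKFlat_of_isStrictlyLE P 0 hf⟩

/-- The Tor sheaves, in the derived category. -/
theorem nonempty_HD_iso (hi : RegImm.IsRegularImmersion RegImm.Kind.regular i) (hM : Coh.IsQCoh M)
    [DCoh.HasLTensorMod (push i (Coh.structureModule Y))]
    {q : ℕ} {L : Y.Modules} (hL : ExtPow.IsExtPow q (Omega.conormal i) L) :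
    Nonempty (DCoh.HD ((DCoh.LTensorMod (push i (Coh.structureModule Y))).obj (DCoh.inD X (push i M))) (-(q : ℤ)) ≅
      (Scheme.Modules.pushforward i).obj ((DCoh.tensorBi.obj M).obj L)) := by
  obtain ⟨P, ψ, hψ, hf, hz, hK⟩ := exists_resolution (push i M)
  haveI := hψ
  haveI := KFlatLib.isIso_Q_map ψ hψ
  obtain ⟨e⟩ := nonempty_homology_iso i hi hM P ψ hf hz hL
  exact ⟨(DerivedCategory.homologyFunctor X.Modules (-(q : ℤ))).mapIso
      ((DCoh.LTensorMod (push i (Coh.structureModule Y))).mapIso (asIso (DerivedCategory.Q.map ψ) ≪≫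
        ((DerivedCategory.singleFunctorIsoCompQ X.Modules 0).app (push i M)).symm).symm) ≪≫
    KFlatLib.hdLTensorModIso (push i (Coh.structureModule Y)) hK (-(q : ℤ)) ≪≫ e⟩

end Groth.Agent.H28.SelfInt
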