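import Groth.Agent.H28.SelfInt.Basis
import Mathlib.RingTheory.Regular.RegularSequence

/-!
# Change of rings for families, and regular sequences on flat modules
-/

set_option autoImplicit false
set_option linter.style.haveILetI false
set_option linter.unusedSectionVars false

noncomputable section

namespace Groth.Agent.H28.SelfInt

open scoped TensorProduct

variable {R R' : Type*} [CommRing R] [CommRing R'] {N : ℕ → Type*} [∀ p, AddCommGroup (N p)] [∀ p, Module R (N p)]
  {N' : ℕ → Type*} [∀ p, AddCommGroup (N' p)] [∀ p, Module R' (N' p)]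
  {M : Type*} [AddCommGroup M] [Module R M] {M' : Type*} [AddCommGroup M'] [Module R' M']
  {d : ∀ p, N (p + 1) →ₗ[R] N p} {ε : N 0 →ₗ[R] M} {d' : ∀ p, N' (p + 1) →ₗ[R'] N' p} {ε' : N' 0 →ₗ[R'] M'}

theorem IsFam.map (σ : R →+* R') (g : ∀ p, N p →+ N' p) (g₀ : M →+ M')
    (hg : ∀ p (b : R) (w : N p), g p (b • w) = σ b • g p w) (hgd : ∀ p w, g p (d p w) = d' p (g (p + 1) w))
    (hgε : ∀ w, g₀ (ε w) = ε' (g 0 w)) {ι : Type*} {a : ι → R} {m : M} {q : ℕ} {c : ∀ p, (Fin p → ι) → N p}
    (h : IsFam d ε a m q c) : IsFam d' ε' (σ ∘ a) (g₀ m) q (fun p v => g p (c p v)) where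
  aug := by rw [← hgε, h.aug]
  step p hp v := by
    rw [← hgd, h.step p hp v]
    simp [D, map_sum, map_zsmul, hg]

/-- A regular sequence stays regular on a flat module, element by element. -/
theorem smul_mem_of_flat {V : Type*} [AddCommGroup V] [Module R V] [Module.Flat R V] {r : ℕ} (f : ℕ → R)
    (hreg : RingTheory.Sequence.IsWeaklyRegular R (List.ofFn fun i : Fin r => f i)) {j : ℕ} (hj : j < r) {w : V}
    (h : f j • w ∈ idl f j • (⊤ : Submodule R V)) : w ∈ idl f j • (⊤ : Submodule R V) := by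
  have hV : RingTheory.Sequence.IsWeaklyRegular V (List.ofFn fun i : Fin r => f i) :=
    ((TensorProduct.lid R V).isWeaklyRegular_congr _).1 (hreg.isWeaklyRegular_rTensor)
  have hlen : j < (List.ofFn fun i : Fin r => f i).length := by simpa using hj
  have h1 := hV.regular_mod_prev j hlen
  have hI : Ideal.ofList ((List.ofFn fun i : Fin r => f i).take j) = idl f j := by
    refine congrArg Ideal.span (Set.ext fun x => ?_)
    simp only [Set.mem_setOf_eq, Set.mem_image, Set.mem_Iio, List.mem_take_iff_getElem, List.getElem_ofFn,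
      List.length_ofFn]
    constructor
    · rintro ⟨i, hi, rfl⟩
      exact ⟨i, lt_of_lt_of_le hi (min_le_left _ _), rfl⟩
    · rintro ⟨i, hi, rfl⟩
      exact ⟨i, lt_min hi (hi.trans hj), rfl⟩
  rw [List.getElem_ofFn, hI] at h1
  rw [← Submodule.Quotient.mk_eq_zero] at h ⊢
  refine h1 ?_
  show f j • Submodule.Quotient.mk w = f j • (0 : V ⧸ idl f j • (⊤ : Submodule R V))
  rw [← Submodule.Quotient.mk_smul, h, smul_zero]

end Groth.Agent.H28.SelfInt
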