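import Groth.Agent.KFlatLib.Scheme.RelTor
import Groth.Agent.AModX.Res
import Groth.Agent.QCoh.Stalk

/-!
# Elements of stalks of modules
-/

set_option autoImplicit false
set_option linter.style.haveILetI false
set_option linter.unusedSectionVars false
set_option backward.isDefEq.respectTransparency false
set_option backward.isDefEq.respectTransparency.types false

universe u

open CategoryTheory CategoryTheory.Limits AlgebraicGeometry TopologicalSpace Opposite
open Groth.Agent.AModX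

noncomputable section

namespace Groth.Agent.H28.SelfInt

variable {X : Scheme.{u}}

/-- The stalk. -/
abbrev st (M : X.Modules) (x : X) : ModuleCat.{u} (X.presheaf.stalk x) := (DerSch.stalkFunctor X x).obj M

/-- The germ. -/
def gm (M : X.Modules) {U : X.Opens} {x : X} (hx : x ∈ U) : Γ(M, U) →+ st M x := (M.presheaf.germ U x hx).hom

/-- The germ of a function. -/
abbrev gR {U : X.Opens} {x : X} (hx : x ∈ U) : Γ(X, U) →+* X.presheaf.stalk x := (X.presheaf.germ U x hx).hom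

/-- The map of stalks. -/
abbrev stL {M N : X.Modules} (φ : M ⟶ N) (x : X) : st M x →ₗ[X.presheaf.stalk x] st N x :=
  ((DerSch.stalkFunctor X x).map φ).hom

variable {M N L : X.Modules}

theorem gm_smul {U : X.Opens} {x : X} (hx : x ∈ U) (r : Γ(X, U)) (s : Γ(M, U)) :
    gm M hx (r • s) = gR hx r • gm M hx s := QCoh.germ_smul' M hx r s

theorem stL_gm (φ : M ⟶ N) {U : X.Opens} {x : X} (hx : x ∈ U) (s : Γ(M, U)) :
    stL φ x (gm M hx s) = gm N hx (φ.app U s) := DerSch.stalkFunctor_map_germ x φ U hx s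

theorem stL_comp (φ : M ⟶ N) (ψ : N ⟶ L) (x : X) (m : st M x) : stL (φ ≫ ψ) x m = stL ψ x (stL φ x m) := by
  simp [stL]

theorem stL_zero (x : X) (m : st M x) : stL (0 : M ⟶ N) x m = 0 := by simp [stL]

theorem stL_comp_eq_zero (φ : M ⟶ N) (ψ : N ⟶ L) (h : φ ≫ ψ = 0) (x : X) (m : st M x) : stL ψ x (stL φ x m) = 0 := by
  rw [← stL_comp, h, stL_zero]

theorem gm_res {U V : X.Opens} (h : V ≤ U) {x : X} (hx : x ∈ V) (s : Γ(M, U)) :
    gm M hx (res M h s) = gm M (h hx) s := M.presheaf.germ_res_apply (homOfLE h) x hx s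

theorem gR_resR {U V : X.Opens} (h : V ≤ U) {x : X} (hx : x ∈ V) (s : Γ(X, U)) :
    gR hx (resR h s) = gR (h hx) s := X.presheaf.germ_res_apply (homOfLE h) x hx s

theorem exists_gm {x : X} (z : st M x) {W : X.Opens} (hx : x ∈ W) :
    ∃ (V : X.Opens) (_ : V ≤ W) (hV : x ∈ V) (s : Γ(M, V)), gm M hV s = z := by
  obtain ⟨U, hU, s, rfl⟩ := M.presheaf.exists_germ_eq (x := x) z
  exact ⟨U ⊓ W, inf_le_right, ⟨hU, hx⟩, res M inf_le_left s, gm_res _ _ _⟩

theorem exists_gR {x : X} (z : X.presheaf.stalk x) {W : X.Opens} (hx : x ∈ W) :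
    ∃ (V : X.Opens) (_ : V ≤ W) (hV : x ∈ V) (s : Γ(X, V)), gR hV s = z := by
  obtain ⟨U, hU, s, rfl⟩ := X.presheaf.exists_germ_eq (x := x) z
  exact ⟨U ⊓ W, inf_le_right, ⟨hU, hx⟩, resR inf_le_left s, gR_resR _ _ _⟩

theorem exists_res_eq {U : X.Opens} {x : X} (hx : x ∈ U) {s t : Γ(M, U)} (h : gm M hx s = gm M hx t) :
    ∃ (V : X.Opens) (i : V ≤ U), x ∈ V ∧ res M i s = res M i t := by
  obtain ⟨V, hV, i, j, e⟩ := M.presheaf.germ_eq x hx hx s t h
  exact ⟨V, i.le, hV, e⟩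

theorem eq_of_gm {U : X.Opens} {s t : Γ(M, U)} (h : ∀ x (hx : x ∈ U), gm M hx s = gm M hx t) : s = t :=
  eq_of_locally s t fun p hp => by
    obtain ⟨V, i, hpV, e⟩ := exists_res_eq hp (h p hp)
    exact ⟨V, i, hpV, e⟩

/-- Finitely many germs come from one open. -/
theorem exists_common {σ : Type*} [Finite σ] (F : σ → X.Modules) {x : X} (z : ∀ i, st (F i) x) {W : X.Opens}
    (hx : x ∈ W) : ∃ (V : X.Opens) (_ : V ≤ W) (hV : x ∈ V) (s : ∀ i, Γ(F i, V)), ∀ i, gm (F i) hV (s i) = z i := by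
  cases nonempty_fintype σ
  choose U hUW hxU s hs using fun i => exists_gm (z i) hx
  let O : X.Opens := ⟨(W : Set X) ∩ ⋂ i, (U i : Set X), W.2.inter (isOpen_iInter_of_finite fun i => (U i).2)⟩
  refine ⟨O, fun y (hy : y ∈ (W : Set X) ∩ ⋂ i, (U i : Set X)) => hy.1, ⟨hx, Set.mem_iInter.2 hxU⟩, fun i => res (F i) (show O ≤ U i from fun y (hy : y ∈ (W : Set X) ∩ ⋂ i, (U i : Set X)) => Set.mem_iInter.1 hy.2 i) (s i),
    fun i => ?_⟩
  rw [gm_res]
  exact hs i

/-- Finitely many equal germs agree on one open. -/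
theorem exists_common_eq {σ : Type*} [Finite σ] (F : σ → X.Modules) {x : X} {U : X.Opens} (hx : x ∈ U)
    (s t : ∀ i, Γ(F i, U)) (h : ∀ i, gm (F i) hx (s i) = gm (F i) hx (t i)) :
    ∃ (V : X.Opens) (i : V ≤ U), x ∈ V ∧ ∀ j, res (F j) i (s j) = res (F j) i (t j) := by
  cases nonempty_fintype σ
  choose V hVU hxV he using fun i => exists_res_eq hx (h i)
  let O : X.Opens := ⟨(U : Set X) ∩ ⋂ i, (V i : Set X), U.2.inter (isOpen_iInter_of_finite fun i => (V i).2)⟩
  refine ⟨O, fun y (hy : y ∈ (U : Set X) ∩ ⋂ i, (V i : Set X)) => hy.1, ⟨hx, Set.mem_iInter.2 hxV⟩, fun j => ?_⟩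
  have hO : O ≤ V j := fun y (hy : y ∈ (U : Set X) ∩ ⋂ i, (V i : Set X)) => Set.mem_iInter.1 hy.2 j
  rw [← res_res (hVU j) hO, ← res_res (hVU j) hO, he j]

variable {S : ShortComplex X.Modules}

theorem exists_of_exact (hS : S.Exact) {x : X} (m : st S.X₂ x) (hm : stL S.g x m = 0) : ∃ a, stL S.f x a = m :=
  (ShortComplex.moduleCat_exact_iff _).1 (hS.map (DerSch.stalkFunctor X x)) m hm

theorem stL_surjective (φ : M ⟶ N) [Epi φ] (x : X) : Function.Surjective (stL φ x) :=
  haveI := preservesEpimorphisms_of_preservesColimitsOfShape (DerSch.stalkFunctor X x)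
  (ModuleCat.epi_iff_surjective _).1 (inferInstanceAs (Epi ((DerSch.stalkFunctor X x).map φ)))

theorem stL_injective (φ : M ⟶ N) [Mono φ] (x : X) : Function.Injective (stL φ x) :=
  haveI := preservesMonomorphisms_of_preservesLimitsOfShape (DerSch.stalkFunctor X x)
  (ModuleCat.mono_iff_injective _).1 (inferInstanceAs (Mono ((DerSch.stalkFunctor X x).map φ)))

theorem isIso_of_bijective (φ : M ⟶ N) (h : ∀ x, Function.Bijective (stL φ x)) : IsIso φ :=
  KFlatLib.isIso_of_stalk φ fun x => (ConcreteCategory.isIso_iff_bijective _).2 (h x)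

section Homology

variable (C : CochainComplex X.Modules ℤ) (i : ℤ)

theorem exists_cycle {x : X} (w : st (C.X i) x) (hw : ∀ k, stL (C.d i k) x w = 0) :
    ∃ κ : st (C.cycles i) x, stL (C.iCycles i) x κ = w :=
  exists_of_exact (S := ShortComplex.mk (C.iCycles i) (C.d i (i + 1)) (C.iCycles_d i (i + 1)))
    (ShortComplex.exact_of_f_is_kernel _ (C.cyclesIsKernel i (i + 1) (by simp))) w (hw _)

theorem homologyπ_eq_zero {x : X} (κ : st (C.cycles i) x) (h : stL (C.homologyπ i) x κ = 0) :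
    ∃ w : st (C.X (i - 1)) x, stL (C.d (i - 1) i) x w = stL (C.iCycles i) x κ := by
  obtain ⟨w, hw⟩ := exists_of_exact
    (S := ShortComplex.mk (C.toCycles (i - 1) i) (C.homologyπ i) (C.toCycles_comp_homologyπ (i - 1) i))
    (ShortComplex.exact_of_g_is_cokernel _ (C.homologyIsCokernel (i - 1) i (by simp))) κ h
  exact ⟨w, by rw [← hw, ← stL_comp, C.toCycles_i]⟩

end Homology

end Groth.Agent.H28.SelfInt
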