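import Groth.Agent.H28.SelfInt.Map
import Groth.Agent.H28.SelfInt.Stalk
import Groth.Agent.Lib.ConormalWedge
import Groth.Agent.Lib.BasisHom

/-!
# The classes of sections of the ideal in Tor
-/

set_option autoImplicit false
set_option linter.style.haveILetI false
set_option linter.unusedSectionVars false
set_option backward.isDefEq.respectTransparency false
set_option backward.isDefEq.respectTransparency.types false
set_option maxHeartbeats 1000000

universe u

open CategoryTheory CategoryTheory.Limits AlgebraicGeometry TopologicalSpace Opposite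
open Groth.Agent.AModX

noncomputable section

namespace Groth.Agent.H28.SelfInt

variable {X Y : Scheme.{u}} (i : Y ⟶ X) [IsClosedImmersion i]

/-- The direct image. -/
abbrev push (M : Y.Modules) : X.Modules := (Scheme.Modules.pushforward i).obj M

/-- One in the direct image of the structure sheaf. -/
def oneP (x : X) : st (push i (Coh.structureModule Y)) x :=
  gm (U := ⊤) (push i (Coh.structureModule Y)) trivial ((ClSub.unitToPush i).app ⊤ (show Γ(Coh.structureModule X, ⊤) from (1 : Γ(X, ⊤))))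

/-- The ideal of the subscheme at a point. -/
def J (x : X) : Ideal (X.presheaf.stalk x) := LinearMap.ker (LinearMap.toSpanSingleton _ _ (oneP i x))

theorem gR_smul_one {x : X} {V : X.Opens} (hx : x ∈ V) (b : Γ(X, V)) :
    gR hx b • oneP i x =
      gm (push i (Coh.structureModule Y)) hx ((ClSub.unitToPush i).app V (show Γ(Coh.structureModule X, V) from b)) := by
  have h1 : oneP i x = gm (push i (Coh.structureModule Y)) hx
      ((ClSub.unitToPush i).app V (show Γ(Coh.structureModule X, V) from (1 : Γ(X, V)))) := by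
    rw [← show res (Coh.structureModule X) (le_top : V ≤ ⊤) (show Γ(Coh.structureModule X, ⊤) from (1 : Γ(X, ⊤))) =
      (1 : Γ(X, V)) from map_one (resR (le_top : V ≤ ⊤)), app_res, gm_res]
    rfl
  rw [h1, ← gm_smul, ← Scheme.Modules.Hom.app_smul]
  refine congrArg _ (congrArg _ ?_)
  exact (mul_one b : b * (1 : Γ(X, V)) = b)

theorem gR_mem_J {x : X} {V : X.Opens} (hx : x ∈ V) (b : Γ(X, V)) (hb : i.app V b = 0) : gR hx b ∈ J i x := by
  show gR hx b • oneP i x = 0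
  rw [gR_smul_one, show (ClSub.unitToPush i).app V (show Γ(Coh.structureModule X, V) from b) = 0 from hb, map_zero]

theorem exists_of_mem_J {x : X} {r : X.presheaf.stalk x} (hr : r ∈ J i x) {W : X.Opens} (hxW : x ∈ W) :
    ∃ (V : X.Opens) (_ : V ≤ W) (hx : x ∈ V) (b : Γ(X, V)), gR hx b = r ∧ i.app V b = 0 := by
  obtain ⟨V, hVW, hV, b, rfl⟩ := exists_gR r hxW
  have h : gR hV b • oneP i x = 0 := hr
  rw [gR_smul_one] at h
  obtain ⟨V', hle, hV', e⟩ := exists_res_eq hV (h.trans (map_zero _).symm)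
  refine ⟨V', hle.trans hVW, hV', resR hle b, gR_resR _ _ _, ?_⟩
  rw [map_zero, ← app_res] at e
  exact e

theorem J_smul_push (M : Y.Modules) {x : X} {r : X.presheaf.stalk x} (hr : r ∈ J i x) (m : st (push i M) x) :
    r • m = 0 := by
  obtain ⟨U, hU, s, rfl⟩ := (push i M).presheaf.exists_germ_eq (x := x) m
  obtain ⟨V, hVU, hV, b, rfl, hb⟩ := exists_of_mem_J i hr hU
  show gR hV b • gm (push i M) hU s = 0
  rw [← gm_res hVU hV, ← gm_smul]
  refine (congrArg (gm (push i M) hV) ?_).trans (map_zero _)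
  refine (QCoh.pushforward_smul i V b _).trans ?_
  rw [hb]
  exact zero_smul Γ(Y, i ⁻¹ᵁ V) (show Γ(M, i ⁻¹ᵁ V) from _)

/-- A flat resolution of a direct image and its quotient by the ideal. -/
structure Setup (M : Y.Modules) where
  /-- The resolution. -/
  P : CochainComplex X.Modules ℤ
  /-- The augmentation. -/
  ε : P.X (-((0 : ℕ) : ℤ)) ⟶ push i M
  /-- The quotient complex. -/
  C : CochainComplex X.Modules ℤ
  /-- The quotient map. -/
  η : P ⟶ C
  flat : ∀ n x, Module.Flat (X.presheaf.stalk x) (st (P.X n) x)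
  top : IsZero (P.X 1)
  resol : ∀ x, IsRes (N := fun p => ↑(st (P.X (-(p : ℤ))) x)) (fun p => stL (P.d (-((p + 1 : ℕ) : ℤ)) (-(p : ℤ))) x) (stL ε x)
  eta_surj : ∀ n x, Function.Surjective (stL (η.f n) x)
  eta_ker : ∀ n x z, stL (η.f n) x z = 0 ↔ z ∈ J i x • (⊤ : Submodule (X.presheaf.stalk x) (st (P.X n) x))

namespace Setup

variable {i} {M : Y.Modules} (S : Setup i M) {q : ℕ}

/-- Stalks of the resolution. -/
abbrev N (x : X) : ℕ → Type u := fun p => ↑(st (S.P.X (-(p : ℤ))) x)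

/-- The differentials. -/
abbrev dS (x : X) : ∀ p, S.N x (p + 1) →ₗ[X.presheaf.stalk x] S.N x p :=
  fun p => stL (S.P.d (-((p + 1 : ℕ) : ℤ)) (-(p : ℤ))) x

/-- The augmentation. -/
abbrev εS (x : X) : S.N x 0 →ₗ[X.presheaf.stalk x] st (push i M) x := stL S.ε x

/-- The Tor sheaf. -/
abbrev T (q : ℕ) : X.Modules := S.C.homology (-(q : ℤ))

/-- The class of an element. -/
def IsCls {x : X} (z : S.N x q) (τ : st (S.T q) x) : Prop :=
  ∃ κ : st (S.C.cycles (-(q : ℤ))) x,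
    stL (S.C.iCycles (-(q : ℤ))) x κ = stL (S.η.f (-(q : ℤ))) x z ∧ stL (S.C.homologyπ (-(q : ℤ))) x κ = τ

variable {S}

theorem eta_d (x : X) (a b : ℤ) (w : st (S.P.X a) x) :
    stL (S.η.f b) x (stL (S.P.d a b) x w) = stL (S.C.d a b) x (stL (S.η.f a) x w) := by
  rw [← stL_comp, ← stL_comp, S.η.comm]

theorem d_eta_eq_zero {x : X} {z : S.N x q} (hz : Cyc (S.dS x) (J i x) q z) (k : ℤ) :
    stL (S.C.d (-(q : ℤ)) k) x (stL (S.η.f (-(q : ℤ))) x z) = 0 := by
  rw [← eta_d]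
  by_cases hk : -(q : ℤ) + 1 = k
  · cases q with
    | zero =>
      obtain rfl : k = 1 := by simpa using hk.symm
      rw [show stL (S.P.d (-((0 : ℕ) : ℤ)) 1) x z = 0 from by rw [S.top.eq_of_tgt (S.P.d _ 1) 0, stL_zero], map_zero]
    | succ p =>
      obtain rfl : k = -(p : ℤ) := by push_cast at hk; omega
      exact (S.eta_ker _ x _).2 hz
  · rw [show S.P.d (-(q : ℤ)) k = 0 from S.P.shape _ _ (by simpa using hk), stL_zero, map_zero]

theorem exists_isCls {x : X} {z : S.N x q} (hz : Cyc (S.dS x) (J i x) q z) : ∃ τ, S.IsCls z τ := by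
  obtain ⟨κ, hκ⟩ := exists_cycle S.C (-(q : ℤ)) _ (d_eta_eq_zero hz)
  exact ⟨_, κ, hκ, rfl⟩

theorem IsCls.add {x : X} {z z' : S.N x q} {τ τ' : st (S.T q) x} (h : S.IsCls z τ) (h' : S.IsCls z' τ') :
    S.IsCls (z + z') (τ + τ') := by
  obtain ⟨κ, hκ, rfl⟩ := h
  obtain ⟨κ', hκ', rfl⟩ := h'
  exact ⟨κ + κ', by rw [map_add, map_add, hκ, hκ'], map_add _ _ _⟩

theorem IsCls.smul {x : X} {z : S.N x q} {τ : st (S.T q) x} (b : X.presheaf.stalk x) (h : S.IsCls z τ) :
    S.IsCls (b • z) (b • τ) := by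
  obtain ⟨κ, hκ, rfl⟩ := h
  exact ⟨b • κ, by rw [map_smul, map_smul, hκ], map_smul _ _ _⟩

theorem IsCls.zero (x : X) : S.IsCls (0 : S.N x q) 0 := ⟨0, by simp, map_zero _⟩

theorem IsCls.sum {x : X} {σ : Type*} (s : Finset σ) {z : σ → S.N x q} {τ : σ → st (S.T q) x}
    (h : ∀ j, S.IsCls (z j) (τ j)) : S.IsCls (∑ j ∈ s, z j) (∑ j ∈ s, τ j) := by
  classical
  induction s using Finset.induction with
  | empty => simpa using IsCls.zero x
  | insert a s ha ih => rw [Finset.sum_insert ha, Finset.sum_insert ha]; exact (h a).add ih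

theorem IsCls.eq_zero_of_mem {x : X} {z : S.N x q} {τ : st (S.T q) x} (h : S.IsCls z τ)
    (hz : z ∈ Bd (S.dS x) (J i x) q) : τ = 0 := by
  obtain ⟨κ, hκ, rfl⟩ := h
  obtain ⟨_, ⟨w, rfl⟩, j, hj, rfl⟩ := Submodule.mem_sup.1 hz
  rw [map_add, (S.eta_ker _ x j).2 hj, add_zero, eta_d, ← S.C.toCycles_i, stL_comp] at hκ
  rw [stL_injective _ x hκ, ← stL_comp, S.C.toCycles_comp_homologyπ, stL_zero]

theorem IsCls.eq_of_sub_mem {x : X} {z z' : S.N x q} {τ τ' : st (S.T q) x} (h : S.IsCls z τ) (h' : S.IsCls z' τ')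
    (hz : z - z' ∈ Bd (S.dS x) (J i x) q) : τ = τ' := by
  have h'' : S.IsCls (z - z') (τ - τ') := by
    simpa [← sub_eq_add_neg] using h.add (h'.smul (-1))
  exact sub_eq_zero.1 (h''.eq_zero_of_mem hz)

theorem IsCls.mem_of_eq_zero {x : X} {z : S.N x q} (h : S.IsCls z 0) : z ∈ Bd (S.dS x) (J i x) q := by
  obtain ⟨κ, hκ, h0⟩ := h
  obtain ⟨w, hw⟩ := homologyπ_eq_zero S.C _ κ h0
  have key : ∀ k : ℤ, k = -(q : ℤ) - 1 → ∃ w' : st (S.P.X k) x,
      z - stL (S.P.d k (-(q : ℤ))) x w' ∈ J i x • (⊤ : Submodule (X.presheaf.stalk x) (S.N x q)) := by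
    rintro _ rfl
    obtain ⟨w', rfl⟩ := S.eta_surj _ x w
    refine ⟨w', (S.eta_ker _ x _).1 ?_⟩
    rw [map_sub, eta_d, hw, hκ, sub_self]
  obtain ⟨w', hw'⟩ := key (-((q + 1 : ℕ) : ℤ)) (by push_cast; ring)
  have := add_mem (Submodule.mem_sup_left (LinearMap.mem_range_self (S.dS x q) w') : S.dS x q w' ∈ Bd (S.dS x) (J i x) q)
    (Submodule.mem_sup_right hw')
  exact (congrArg (fun z₀ => z₀ ∈ Bd (S.dS x) (J i x) q) ((add_comm _ _).trans
    (sub_add_cancel z (S.dS x q w')))).mp this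

theorem exists_cls_eq {x : X} (τ : st (S.T q) x) : ∃ z : S.N x q, Cyc (S.dS x) (J i x) q z ∧ S.IsCls z τ := by
  obtain ⟨κ, rfl⟩ := stL_surjective (S.C.homologyπ (-(q : ℤ))) x τ
  obtain ⟨z, hz⟩ := S.eta_surj _ x (stL (S.C.iCycles (-(q : ℤ))) x κ)
  refine ⟨z, ?_, κ, hz.symm, rfl⟩
  cases q with
  | zero => trivial
  | succ p =>
    refine (S.eta_ker _ x _).1 ?_
    rw [eta_d, hz, ← stL_comp, S.C.iCycles_d, stL_zero]

theorem IsCls.smul_eq_zero {x : X} {r : X.presheaf.stalk x} (hr : r ∈ J i x) (τ : st (S.T q) x) : r • τ = 0 := by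
  obtain ⟨z, -, hz⟩ := exists_cls_eq τ
  exact (hz.smul r).eq_zero_of_mem (Submodule.mem_sup_right (Submodule.smul_mem_smul hr Submodule.mem_top))

variable (S)

/-- The germs of a tuple of sections of the ideal. -/
abbrev ga {W : X.Opens} {x : X} (hx : x ∈ W) (a : Fin q → ConormalWedge.Id i W) : Fin q → X.presheaf.stalk x :=
  fun j => gR hx (ConormalWedge.fn i (a j))

/-- `t` is the class of `a` and `m`. -/
def IsTh {W : X.Opens} (a : Fin q → ConormalWedge.Id i W) (m : Γ(push i M, W)) (t : Γ(S.T q, W)) : Prop :=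
  ∀ x (hx : x ∈ W), ∀ z τ, Rep (S.dS x) (S.εS x) (ga hx a) (gm (push i M) hx m) z → S.IsCls z τ →
    τ = gm (S.T q) hx t

variable {S}

theorem ga_mem {W : X.Opens} {x : X} (hx : x ∈ W) (a : Fin q → ConormalWedge.Id i W) (j : Fin q) :
    ga hx a j ∈ J i x := gR_mem_J i hx _ (ConormalWedge.fn_mem i (a j))

theorem exists_rep {W : X.Opens} {x : X} (hx : x ∈ W) (a : Fin q → ConormalWedge.Id i W) (m : Γ(push i M, W)) :
    ∃ z τ, Rep (S.dS x) (S.εS x) (ga hx a) (gm (push i M) hx m) z ∧ S.IsCls z τ := by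
  obtain ⟨z, hz⟩ := Rep.exists (S.resol x) (ga hx a) (gm (push i M) hx m) fun j => J_smul_push i M (ga_mem hx a j) _
  obtain ⟨τ, hτ⟩ := exists_isCls (hz.cyc (J i x) fun j => ga_mem hx a j)
  exact ⟨z, τ, hz, hτ⟩

theorem IsTh.of_exists {W : X.Opens} {a : Fin q → ConormalWedge.Id i W} {m : Γ(push i M, W)} {t : Γ(S.T q, W)}
    (h : ∀ x (hx : x ∈ W), ∃ z, Rep (S.dS x) (S.εS x) (ga hx a) (gm (push i M) hx m) z ∧
      S.IsCls z (gm (S.T q) hx t)) : S.IsTh a m t := fun x hx z τ hz hτ => by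
  obtain ⟨z', hz', hτ'⟩ := h x hx
  exact hτ.eq_of_sub_mem hτ' (hz.sub_mem (S.resol x) hz' _ fun j => ga_mem hx a j)

theorem IsTh.exists_germ {W : X.Opens} {a : Fin q → ConormalWedge.Id i W} {m : Γ(push i M, W)} {t : Γ(S.T q, W)}
    (h : S.IsTh a m t) (x : X) (hx : x ∈ W) : ∃ z, Rep (S.dS x) (S.εS x) (ga hx a) (gm (push i M) hx m) z ∧
      S.IsCls z (gm (S.T q) hx t) := by
  obtain ⟨z, τ, hz, hτ⟩ := exists_rep (S := S) hx a m
  exact ⟨z, hz, h x hx z τ hz hτ ▸ hτ⟩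

theorem IsTh.unique {W : X.Opens} {a : Fin q → ConormalWedge.Id i W} {m : Γ(push i M, W)} {t t' : Γ(S.T q, W)}
    (h : S.IsTh a m t) (h' : S.IsTh a m t') : t = t' := eq_of_gm fun x hx => by
  obtain ⟨z, τ, hz, hτ⟩ := exists_rep (S := S) hx a m
  rw [← h x hx z τ hz hτ, ← h' x hx z τ hz hτ]

theorem ga_res {W V : X.Opens} (h : V ≤ W) {x : X} (hx : x ∈ V) (a : Fin q → ConormalWedge.Id i W) :
    ga hx (fun j => res (ClSub.idealMod i.ker) h (a j)) = ga (h hx) a := funext fun j => by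
  show gR hx _ = _
  rw [ConormalWedge.fn_res, gR_resR]

theorem IsTh.restrict {W V : X.Opens} (h : V ≤ W) {a : Fin q → ConormalWedge.Id i W} {m : Γ(push i M, W)}
    {t : Γ(S.T q, W)} (ht : S.IsTh a m t) :
    S.IsTh (fun j => res (ClSub.idealMod i.ker) h (a j)) (res (push i M) h m) (res (S.T q) h t) := by
  refine IsTh.of_exists fun x hx => ?_
  rw [ga_res, gm_res, gm_res]
  exact ht.exists_germ x (h hx)

/-- A family of germs comes from a family of sections. -/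
theorem exists_local {W : X.Opens} {x : X} (hx : x ∈ W) (a : Fin q → ConormalWedge.Id i W) (m : Γ(push i M, W)) :
    ∃ (V : X.Opens) (h : V ≤ W), x ∈ V ∧ ∃ s : Γ(S.P.X (-(q : ℤ)), V), ∀ y (hy : y ∈ V),
      Rep (S.dS y) (S.εS y) (ga (h hy) a) (gm (push i M) (h hy) m) (gm (S.P.X (-(q : ℤ))) hy s) := by
  classical
  obtain ⟨c, hc⟩ := exists_fam (S.resol x) (ga hx a) (gm (push i M) hx m) (fun j => J_smul_push i M (ga_mem hx a j) _) q
  let F : (Σ p : Fin (q + 1), Fin p.1 → Fin q) → X.Modules := fun k => S.P.X (-(k.1.1 : ℤ))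
  obtain ⟨V, hVW, hxV, s, hs⟩ := exists_common F (fun k => c k.1.1 k.2) hx
  let cs : ∀ p, (Fin p → Fin q) → Γ(S.P.X (-(p : ℤ)), V) := fun p v => if h : p < q + 1 then s ⟨⟨p, h⟩, v⟩ else 0
  have hcs : ∀ p, p ≤ q → ∀ v, gm (S.P.X (-(p : ℤ))) hxV (cs p v) = c p v := fun p hp v => by
    simp only [cs, dif_pos (Nat.lt_succ_of_le hp)]
    exact hs ⟨⟨p, _⟩, v⟩
  let rhs : ∀ p, (Fin (p + 1) → Fin q) → Γ(S.P.X (-(p : ℤ)), V) :=
    fun p => D (fun j => resR hVW (ConormalWedge.fn i (a j))) (cs p)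
  have hgD : ∀ (y : X) (hy : y ∈ V) (p : ℕ) v, gm (S.P.X (-(p : ℤ))) hy (rhs p v) =
      D (ga (hVW hy) a) (fun w => gm (S.P.X (-(p : ℤ))) hy (cs p w)) v := fun y hy p v => by
    simp [rhs, D, map_sum, map_zsmul, gm_smul, gR_resR]
  let G : (Σ p : Fin q, Fin (p.1 + 1) → Fin q) → X.Modules := fun k => S.P.X (-(k.1.1 : ℤ))
  obtain ⟨V₁, h₁, hx₁, e₁⟩ := exists_common_eq G hxV
    (fun k => (S.P.d (-((k.1.1 + 1 : ℕ) : ℤ)) (-(k.1.1 : ℤ))).app V (cs (k.1.1 + 1) k.2)) (fun k => rhs k.1.1 k.2)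
    (fun k => by
      rw [hgD x hxV]
      show gm (S.P.X (-(k.1.1 : ℤ))) hxV _ = _
      rw [← stL_gm, hcs _ (Nat.succ_le_of_lt k.1.2)]
      refine (hc.step k.1.1 k.1.2 k.2).trans ?_
      exact congrArg (fun f => D (ga hx a) f k.2) (funext fun w => (hcs _ (le_of_lt k.1.2) w).symm))
  have e₀ : gm (push i M) hxV (S.ε.app V (cs 0 ![])) = gm (push i M) hxV (res (push i M) hVW m) := by
    rw [← stL_gm, hcs 0 (Nat.zero_le q), gm_res]
    exact hc.aug
  obtain ⟨V₂, h₂, hx₂, e₂⟩ := exists_res_eq hxV e₀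
  refine ⟨V₁ ⊓ V₂, (inf_le_left.trans h₁).trans hVW, ⟨hx₁, hx₂⟩,
    res (S.P.X (-(q : ℤ))) (inf_le_left.trans h₁) (cs q id), fun y hy => ?_⟩
  refine ⟨fun p v => gm (S.P.X (-(p : ℤ))) (h₁ hy.1) (cs p v), ⟨?_, fun p hp v => ?_⟩, (gm_res (inf_le_left.trans h₁) hy (cs q id)).symm⟩
  · show stL S.ε y (gm _ _ (cs 0 ![])) = _
    rw [stL_gm, ← gm_res h₂ hy.2, e₂, gm_res, gm_res]
  · show stL _ y (gm _ _ (cs (p + 1) v)) = _
    have e := e₁ ⟨⟨p, hp⟩, v⟩
    rw [stL_gm, ← gm_res h₁ hy.1]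
    refine (congrArg (gm (S.P.X (-(p : ℤ))) hy.1) e).trans ?_
    show gm (S.P.X (-(p : ℤ))) hy.1 (res _ h₁ (rhs p v)) = _
    rw [gm_res, hgD]

theorem exists_isTh_local {W : X.Opens} {x : X} (hx : x ∈ W) (a : Fin q → ConormalWedge.Id i W) (m : Γ(push i M, W)) :
    ∃ (V : X.Opens) (h : V ≤ W), x ∈ V ∧ ∃ t : Γ(S.T q, V),
      S.IsTh (fun j => res (ClSub.idealMod i.ker) h (a j)) (res (push i M) h m) t := by
  obtain ⟨V, h, hxV, s, hs⟩ := exists_local (S := S) hx a m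
  let w := (S.η.f (-(q : ℤ))).app V s
  have hd : (S.C.d (-(q : ℤ)) (-(q : ℤ) + 1)).app V w = 0 := eq_of_gm fun y hy => by
    rw [map_zero, ← stL_gm, ← stL_gm]
    exact d_eta_eq_zero ((hs y hy).cyc (J i y) fun j => ga_mem (h hy) a j) _
  obtain ⟨κ, hκ⟩ := BasisHom.exists_app_eq_of_exact
    (S := ShortComplex.mk (S.C.iCycles (-(q : ℤ))) (S.C.d (-(q : ℤ)) (-(q : ℤ) + 1)) (S.C.iCycles_d _ _))
    (ShortComplex.exact_of_f_is_kernel _ (S.C.cyclesIsKernel _ _ (by simp))) V w hd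
  refine ⟨V, h, hxV, (S.C.homologyπ (-(q : ℤ))).app V κ, IsTh.of_exists fun y hy => ?_⟩
  refine ⟨gm (S.P.X (-(q : ℤ))) hy s, ?_, gm _ hy κ, ?_, stL_gm _ hy κ⟩
  · rw [ga_res, gm_res]; exact hs y hy
  · exact (stL_gm _ hy κ).trans ((congrArg (gm _ hy) hκ).trans (stL_gm _ hy s).symm)

theorem exists_isTh {W : X.Opens} (a : Fin q → ConormalWedge.Id i W) (m : Γ(push i M, W)) :
    ∃ t, S.IsTh a m t := by
  choose V hV hxV t ht using fun x : W => exists_isTh_local (S := S) x.2 a m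
  obtain ⟨s, hs, -⟩ := existsUnique_glue (M := S.T q) (fun x : W => V x) hV (fun p hp => ⟨⟨p, hp⟩, hxV _⟩) t
    fun x x' => by
      refine IsTh.unique (S := S) (W := V x ⊓ V x') ((ht x).restrict inf_le_left) ?_
      have := (ht x').restrict (inf_le_right : V x ⊓ V x' ≤ V x')
      simp only [res_res] at this ⊢
      exact this
  refine ⟨s, IsTh.of_exists fun x hx => ?_⟩
  obtain ⟨z, hz, hτ⟩ := (ht ⟨x, hx⟩).exists_germ x (hxV ⟨x, hx⟩)
  rw [ga_res, gm_res] at hz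
  refine ⟨z, hz, ?_⟩
  rw [← gm_res (hV ⟨x, hx⟩) (hxV ⟨x, hx⟩), hs ⟨x, hx⟩]
  exact hτ

variable (S)

/-- The class of `a` and `m`. -/
def th {W : X.Opens} (a : Fin q → ConormalWedge.Id i W) (m : Γ(push i M, W)) : Γ(S.T q, W) :=
  (exists_isTh (S := S) a m).choose

theorem isTh_th {W : X.Opens} (a : Fin q → ConormalWedge.Id i W) (m : Γ(push i M, W)) : S.IsTh a m (S.th a m) :=
  (exists_isTh (S := S) a m).choose_spec

theorem th_res {W V : X.Opens} (h : V ≤ W) (a : Fin q → ConormalWedge.Id i W) (m : Γ(push i M, W)) :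
    res (S.T q) h (S.th a m) = S.th (fun j => res (ClSub.idealMod i.ker) h (a j)) (res (push i M) h m) :=
  ((S.isTh_th a m).restrict h).unique (S.isTh_th _ _)

theorem th_add_right {W : X.Opens} (a : Fin q → ConormalWedge.Id i W) (m m' : Γ(push i M, W)) :
    S.th a (m + m') = S.th a m + S.th a m' :=
  (S.isTh_th a _).unique <| IsTh.of_exists fun x hx => by
    obtain ⟨z, hz, hτ⟩ := (S.isTh_th a m).exists_germ x hx
    obtain ⟨z', hz', hτ'⟩ := (S.isTh_th a m').exists_germ x hx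
    exact ⟨z + z', by rw [map_add]; exact hz.add hz', by rw [map_add]; exact hτ.add hτ'⟩

theorem th_smul_right {W : X.Opens} (a : Fin q → ConormalWedge.Id i W) (b : Γ(X, W)) (m : Γ(push i M, W)) :
    S.th a (b • m) = b • S.th a m :=
  (S.isTh_th a _).unique <| IsTh.of_exists fun x hx => by
    obtain ⟨z, hz, hτ⟩ := (S.isTh_th a m).exists_germ x hx
    exact ⟨gR hx b • z, by rw [gm_smul]; exact hz.smul _, by rw [gm_smul]; exact hτ.smul _⟩

theorem ga_update {W : X.Opens} {x : X} (hx : x ∈ W) (a : Fin q → ConormalWedge.Id i W) (j : Fin q)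
    (k : ConormalWedge.Id i W) :
    ga hx (Function.update a j k) = Function.update (ga hx a) j (gR hx (ConormalWedge.fn i k)) := by
  funext l
  by_cases h : l = j
  · subst h; simp [ga]
  · simp [ga, h]

theorem fn_add {W : X.Opens} (k k' : ConormalWedge.Id i W) :
    ConormalWedge.fn i (k + k') = ConormalWedge.fn i k + ConormalWedge.fn i k' :=
  map_add (OmegaSh.idealSect i.ker W) k k'

theorem th_update_add {W : X.Opens} (a : Fin q → ConormalWedge.Id i W) (j : Fin q) (k k' : ConormalWedge.Id i W)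
    (m : Γ(push i M, W)) :
    S.th (Function.update a j (k + k')) m = S.th (Function.update a j k) m + S.th (Function.update a j k') m :=
  (S.isTh_th _ _).unique <| IsTh.of_exists fun x hx => by
    obtain ⟨z, z', hz, hz', hzz⟩ := Rep.exists_add (S.resol x) (ga hx a) j (gR hx (ConormalWedge.fn i k))
      (gR hx (ConormalWedge.fn i k')) (gm (push i M) hx m) (fun l _ => J_smul_push i M (ga_mem hx a l) _)
      (J_smul_push i M (gR_mem_J i hx _ (ConormalWedge.fn_mem i k)) _)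
      (J_smul_push i M (gR_mem_J i hx _ (ConormalWedge.fn_mem i k')) _)
    obtain ⟨τ, hτ⟩ := exists_isCls (hz.cyc (J i x) fun l => (congrFun (ga_update hx a j k) l) ▸ ga_mem hx _ l)
    obtain ⟨τ', hτ'⟩ := exists_isCls (hz'.cyc (J i x) fun l => (congrFun (ga_update hx a j k') l) ▸ ga_mem hx _ l)
    refine ⟨z + z', by rw [ga_update, fn_add, map_add]; exact hzz, ?_⟩
    rw [map_add, ← S.isTh_th _ m x hx z τ (by rw [ga_update]; exact hz) hτ,
      ← S.isTh_th _ m x hx z' τ' (by rw [ga_update]; exact hz') hτ']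
    exact hτ.add hτ'

theorem th_update_smul {W : X.Opens} (a : Fin q → ConormalWedge.Id i W) (j : Fin q) (b : Γ(X, W))
    (k : ConormalWedge.Id i W) (m : Γ(push i M, W)) :
    S.th (Function.update a j (b • k)) m = b • S.th (Function.update a j k) m :=
  (S.isTh_th _ _).unique <| IsTh.of_exists fun x hx => by
    obtain ⟨z, hz, hzb⟩ := Rep.exists_smul (S.resol x) (ga hx a) j (gR hx b) (gR hx (ConormalWedge.fn i k))
      (gm (push i M) hx m) (fun l _ => J_smul_push i M (ga_mem hx a l) _)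
      (J_smul_push i M (gR_mem_J i hx _ (ConormalWedge.fn_mem i k)) _)
    obtain ⟨τ, hτ⟩ := exists_isCls (hz.cyc (J i x) fun l => (congrFun (ga_update hx a j k) l) ▸ ga_mem hx _ l)
    refine ⟨gR hx b • z, by rw [ga_update, ConormalWedge.fn_smul, map_mul]; exact hzb, ?_⟩
    rw [gm_smul, ← S.isTh_th _ m x hx z τ (by rw [ga_update]; exact hz) hτ]
    exact hτ.smul _

theorem th_eq_zero {W : X.Opens} (a : Fin q → ConormalWedge.Id i W) {j j' : Fin q} (hj : j ≠ j') (h : a j = a j')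
    (m : Γ(push i M, W)) : S.th a m = 0 :=
  (S.isTh_th _ _).unique <| IsTh.of_exists fun x hx =>
    ⟨0, Rep.zero_of_eq (S.resol x) (ga hx a) hj (by simp [ga, h]) _ fun l => J_smul_push i M (ga_mem hx a l) _,
      by rw [map_zero]; exact IsCls.zero x⟩

theorem th_killed {W : X.Opens} (b : Γ(X, W)) (hb : i.app W b = 0) (t : Γ(S.T q, W)) : b • t = 0 :=
  eq_of_gm fun x hx => by
    rw [gm_smul, map_zero]
    exact IsCls.smul_eq_zero (gR_mem_J i hx b hb) _

end Setup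

end Groth.Agent.H28.SelfInt
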